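import Cfsg.Agent.Lib.Fusion.Centralizer.Fix

/-!
# The fixed subgroup of a normal subsystem is strongly closed
-/

set_option autoImplicit false
set_option linter.unusedSectionVars false

namespace CfsgLib.Fusion.CenSub

open Cfsg Cfsg.FusionSystem CfsgLib.Fusion
open scoped Pointwise

variable {Ω : Type*} [Group Ω] {S T P Q X W : Subgroup Ω} {F : Cfsg.FusionSystem S}
  {E : Cfsg.FusionSystem T} {p : ℕ}

/-- A map preserving `T` carries fixed subgroups to fixed subgroups. -/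
theorem IsFixed.image [Finite S] (hT : F.StronglyClosed T) (hinv : IsStronglyInvariant E F)
    (hX : IsFixed E F X) {θ : W →* Ω} (hθ : θ ∈ F.Hom W) (hTW : T ≤ W) (hXW : X ≤ W) :
    IsFixed E F ((X.subgroupOf W).map θ) := by
  have hTS := hT.1
  have : Finite T := finite_of_le hTS
  obtain ⟨a, ha, hax⟩ := exists_aut (restrict_mem hθ hTW)
    (range_eq_of_le (hom_inj (restrict_mem hθ hTW)) fun x => hT.2 T le_rfl _ (restrict_mem hθ hTW) x)
  constructor
  · rintro _ ⟨x, hx, rfl⟩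
    refine ⟨map_mem hθ x, Subgroup.mem_centralizer_iff.2 fun y hy => ?_⟩
    obtain ⟨t, ht⟩ := a.surjective ⟨y, hy⟩
    rw [show y = θ (Subgroup.inclusion hTW t) from ((hax t).symm.trans (congrArg Subtype.val ht)).symm,
      ← map_mul, ← map_mul]
    exact congrArg θ (Subtype.ext (commute_of_le_centralizerIn hX.1 t.2 hx))
  intro P φ hφ
  have hPT : P ≤ T := (E.le_of_mem hφ).1
  obtain ⟨χ, hχ, hχx⟩ := stronglyInvariant_conj hinv hTS hφ (inv_mem ha)
  let P₀ := (P.subgroupOf T).map (T.subtype.comp (a⁻¹ : MulAut T).toMonoidHom)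
  have hP₀T : P₀ ≤ T := (E.le_of_mem hχ).1
  obtain ⟨η, hη, hηP, hηX⟩ := hX.2 P₀ χ hχ
  have hm : ∀ z, η z ∈ W := forall_mem_of_sup
    (fun x => by rw [hηP]; exact hTW ((E.le_of_mem hχ).2 x))
    (fun x => by rw [hηX]; exact hXW x.2)
  have hr := restrict_mem hθ (sup_le (hP₀T.trans hTW) hXW)
  obtain ⟨ρ, hρ, hρinv⟩ := F.inv_mem hr
  have hPmem : ∀ x : P, ((a⁻¹ ⟨x, hPT x.2⟩ : T) : Ω) ∈ P₀ := fun x => ⟨⟨x, hPT x.2⟩, x.2, rfl⟩
  have hPval : ∀ x : P, θ.comp (Subgroup.inclusion (sup_le (hP₀T.trans hTW) hXW))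
      (Subgroup.inclusion le_sup_left ⟨_, hPmem x⟩) = x := fun x => by
    refine (hax (a⁻¹ ⟨x, hPT x.2⟩)).symm.trans ?_
    rw [MulAut.apply_inv_self]
  have hle : P ⊔ (X.subgroupOf W).map θ ≤
      (θ.comp (Subgroup.inclusion (sup_le (hP₀T.trans hTW) hXW))).range := by
    refine sup_le (fun x hx => ⟨_, hPval ⟨x, hx⟩⟩) ?_
    rintro _ ⟨x, hx, rfl⟩
    exact ⟨⟨x, le_sup_right (a := P₀) hx⟩, rfl⟩
  have hm1 : ∀ z, ρ z ∈ P₀ ⊔ X := by
    rintro ⟨_, z, rfl⟩
    rw [hρinv]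
    exact z.2
  have h2 := F.comp_mem (F.comp_mem hρ hη hm1) hθ fun z => hm _
  refine ⟨_, restrict_mem h2 hle, fun x => ?_, fun x => ?_⟩
  · show θ ⟨η ⟨ρ _, _⟩, _⟩ = _
    have e1 : ρ ⟨(x : Ω), hle (le_sup_left (b := (X.subgroupOf W).map θ) x.2)⟩ =
        ((a⁻¹ ⟨x, hPT x.2⟩ : T) : Ω) :=
      (congrArg ρ (Subtype.ext (hPval x).symm)).trans (hρinv (Subgroup.inclusion le_sup_left ⟨_, hPmem x⟩))
    refine Eq.trans (congrArg θ (Subtype.ext ?_)) (((hax (a⁻¹ ⟨φ x, (E.le_of_mem hφ).2 x⟩)).symm).trans ?_)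
    · refine ((congrArg η (Subtype.ext e1)).trans (hηP ⟨_, hPmem x⟩)).trans ?_
      exact hχx x (hPmem x)
    · rw [MulAut.apply_inv_self]
  · obtain ⟨x₀, hx₀, hx⟩ := x.2
    show θ ⟨η ⟨ρ _, _⟩, _⟩ = _
    have e1 : ρ ⟨(x : Ω), hle (le_sup_right (a := P) x.2)⟩ = x₀ :=
      (congrArg ρ (Subtype.ext hx.symm)).trans (hρinv ⟨x₀, le_sup_right (a := P₀) hx₀⟩)
    refine Eq.trans (congrArg θ (Subtype.ext ?_)) hx
    exact (congrArg η (Subtype.ext e1)).trans (hηX ⟨x₀, hx₀⟩)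

theorem apply_mem_fixSub [Finite S] (hT : F.StronglyClosed T) (hinv : IsStronglyInvariant E F)
    (hfix : IsFixed E F (fixSub E F)) {θ : W →* Ω} (hθ : θ ∈ F.Hom W) (hTW : T ≤ W) (x : W)
    (hx : (x : Ω) ∈ fixSub E F) : θ x ∈ fixSub E F := by
  have h1 : IsFixed E F (Subgroup.zpowers (x : Ω)) := hfix.mono (Subgroup.zpowers_le.2 hx)
  exact (h1.image hT hinv hθ hTW (Subgroup.zpowers_le.2 x.2)).le_fixSub
    ⟨x, Subgroup.mem_zpowers (x : Ω), rfl⟩

theorem conj_mem_fixSub [Finite S] (hT : F.StronglyClosed T) (hinv : IsStronglyInvariant E F)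
    (hfix : IsFixed E F (fixSub E F)) {g x : Ω} (hg : g ∈ S) (hx : x ∈ fixSub E F) :
    g * x * g⁻¹ ∈ fixSub E F :=
  apply_mem_fixSub hT hinv hfix (F.conj_mem le_rfl hg) hT.1
    ⟨x, centralizerIn_le S T (fixSub_le hx)⟩ hx

theorem conj_mem_fixSub_iff [Finite S] (hT : F.StronglyClosed T) (hinv : IsStronglyInvariant E F)
    (hfix : IsFixed E F (fixSub E F)) {g x : Ω} (hg : g ∈ S) :
    g * x * g⁻¹ ∈ fixSub E F ↔ x ∈ fixSub E F :=
  ⟨fun h => by simpa [mul_assoc] using conj_mem_fixSub hT hinv hfix (S.inv_mem hg) h,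
    conj_mem_fixSub hT hinv hfix hg⟩

/-- The maps preserving the fixed subgroup. -/
def preserveSystem [Finite S] (hT : F.StronglyClosed T) (hinv : IsStronglyInvariant E F)
    (hfix : IsFixed E F (fixSub E F)) : Cfsg.FusionSystem S where
  Hom P := {φ | φ ∈ F.Hom P ∧ ∀ x : P, φ x ∈ fixSub E F ↔ (x : Ω) ∈ fixSub E F}
  le_of_mem h := F.le_of_mem h.1
  injective_of_mem h := F.injective_of_mem h.1
  conj_mem := fun hP hg => ⟨F.conj_mem hP hg, fun _ => conj_mem_fixSub_iff hT hinv hfix hg⟩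
  comp_mem := fun hφ hψ h => ⟨F.comp_mem hφ.1 hψ.1 h, fun x => (hψ.2 _).trans (hφ.2 x)⟩
  inv_mem := by
    intro P φ hφ
    obtain ⟨ψ, hψ, hinv'⟩ := F.inv_mem hφ.1
    refine ⟨ψ, ⟨hψ, ?_⟩, hinv'⟩
    rintro ⟨_, x, rfl⟩
    rw [hinv']
    exact (hφ.2 x).symm

/-- An element moved into the fixed subgroup commutes with the part of `T` normalizing. -/
theorem commute_of_apply_mem_fixSub [Finite S] [Fact p.Prime] (hS : IsPGroup p S) (hF : F.IsSaturated p)
    (hE : E.IsNormalIn F p) (hfix : IsFixed E F (fixSub E F))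
    {V : Subgroup Ω} (hV : F.IsFullyCentralized V) (hVT : V ≤ T) (hC : centralizerIn T V ≤ V)
    {t y : Ω} (ht : t ∈ T) (htN : t ∈ Subgroup.normalizer (V : Set Ω)) (hy : y ∈ centralizerIn S V)
    (hVW : V ≤ W) (hyW : y ∈ W) {θ : W →* Ω} (hθ : θ ∈ F.Hom W)
    (hθV : ∀ v : V, θ ⟨v, hVW v.2⟩ ∈ T) (hθy : θ ⟨y, hyW⟩ ∈ fixSub E F) : t * y * t⁻¹ = y := by
  obtain ⟨⟨-, -, hEinv⟩, -⟩ := hE
  have hinv := stronglyInvariant_of_isInvariantIn hEinv
  obtain ⟨hEF, hT, -, hfrat⟩ := hEinv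
  have hTS := hT.1
  have hY := fixSub_le (E := E) (F := F)
  obtain ⟨a, ha, φ₀, hφ₀, hax⟩ := hfrat V hVT _ (restrict_mem hθ hVW)
  have hTfn : F.IsFullyNormalized T := ⟨hTS, fun R hR => by
    have : Finite (normalizerIn S T) := finite_of_le (normalizerIn_le S T)
    exact Nat.card_le_card_of_injective (fun x : normalizerIn S R =>
      (⟨x, x.2.1, stronglyClosed_le_normalizer hT x.2.1⟩ : normalizerIn S T))
      fun a b h => Subtype.ext (congrArg Subtype.val h :)⟩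
  obtain ⟨A, hA, hAT, -⟩ := exists_ext_centralizer (isReceptive_of_isFullyNormalized hS hF hTfn)
    ((mem_autGroup_iff_hom hTS).1 (inv_mem ha)) (range_subtype_comp (a⁻¹ : MulAut T))
  have hW₁ : V ⊔ Subgroup.zpowers y ≤ W := sup_le hVW (Subgroup.zpowers_le.2 hyW)
  have hθ₁ := restrict_mem hθ hW₁
  have hm : ∀ z, θ.comp (Subgroup.inclusion hW₁) z ∈ T ⊔ centralizerIn S T := forall_mem_of_sup
    (fun v => le_sup_left (b := centralizerIn S T) (hθV v))
    (fun z => le_sup_right (a := T) (by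
      obtain ⟨_, k, rfl⟩ := z
      show θ ⟨y ^ k, _⟩ ∈ centralizerIn S T
      rw [show (⟨y ^ k, hW₁ (le_sup_right (a := V) (zpow_mem (Subgroup.mem_zpowers y) k))⟩ : W) =
        ⟨y, hyW⟩ ^ k from Subtype.ext (by simp), map_zpow]
      exact zpow_mem (hY hθy) k))
  have h2 := F.comp_mem hθ₁ hA hm
  set x := θ ⟨y, hyW⟩ with hxdef
  set x' := A ⟨x, le_sup_right (a := T) (hY hθy)⟩ with hx'
  have hx'Y : x' ∈ fixSub E F := apply_mem_fixSub hT hinv hfix hA le_sup_left _ hθy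
  obtain ⟨η, hη, hηV, hηY⟩ := hfix.2 V φ₀ hφ₀
  obtain ⟨ρ, hρ, hρinv⟩ := F.inv_mem hη
  set θ₂ := A.comp ((θ.comp (Subgroup.inclusion hW₁)).codRestrict _ hm) with hθ₂
  have hθ₂V : ∀ v : V, θ₂ (Subgroup.inclusion le_sup_left v) = φ₀ v := fun v => by
    have h0 : φ₀ v ∈ T := (E.le_of_mem hφ₀).2 v
    have h1 : θ ⟨v, hVW v.2⟩ = ((a ⟨φ₀ v, h0⟩ : T) : Ω) := hax v h0
    show A _ = φ₀ v
    refine (congrArg A (Subtype.ext h1)).trans ((hAT (a ⟨φ₀ v, h0⟩)).trans ?_)
    show ((a⁻¹ (a ⟨φ₀ v, h0⟩) : T) : Ω) = φ₀ v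
    rw [MulAut.inv_apply_self]
  have hθ₂y : θ₂ ⟨y, le_sup_right (a := V) (Subgroup.mem_zpowers y)⟩ = x' :=
    congrArg A (Subtype.ext rfl)
  have hm2 : ∀ z, θ₂ z ∈ η.range := forall_mem_of_sup
    (fun v => ⟨Subgroup.inclusion le_sup_left v, (hηV v).trans (hθ₂V v).symm⟩)
    (fun z => by
      obtain ⟨_, k, rfl⟩ := z
      have e : θ₂ (Subgroup.inclusion le_sup_right ⟨y ^ k, zpow_mem (Subgroup.mem_zpowers y) k⟩) = x' ^ k := by
        rw [show Subgroup.inclusion (le_sup_right (a := V)) ⟨y ^ k, zpow_mem (Subgroup.mem_zpowers y) k⟩ =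
          ⟨y, le_sup_right (a := V) (Subgroup.mem_zpowers y)⟩ ^ k from Subtype.ext (by simp),
          map_zpow, hθ₂y]
      rw [e]
      have hx'r : x' ∈ η.range := ⟨Subgroup.inclusion le_sup_right ⟨x', hx'Y⟩, hηY ⟨x', hx'Y⟩⟩
      exact zpow_mem hx'r k)
  have hδ := F.comp_mem h2 hρ hm2
  set δ := ρ.comp (θ₂.codRestrict η.range hm2) with hδdef
  have hδV : ∀ v : V, δ (Subgroup.inclusion le_sup_left v) = v := fun v =>
    (congrArg ρ (Subtype.ext ((hθ₂V v).trans (hηV v).symm))).trans (hρinv (Subgroup.inclusion le_sup_left v))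
  have hδy : δ ⟨y, le_sup_right (a := V) (Subgroup.mem_zpowers y)⟩ = x' :=
    (congrArg ρ (Subtype.ext (hθ₂y.trans (hηY ⟨x', hx'Y⟩).symm))).trans
      (hρinv (Subgroup.inclusion le_sup_right ⟨x', hx'Y⟩))
  have hzy : Subgroup.zpowers y ⊔ V ≤ V ⊔ Subgroup.zpowers y := sup_comm _ _ |>.le
  have hδC : ∀ z : Subgroup.zpowers y,
      δ.comp (Subgroup.inclusion le_sup_right) z ∈ centralizerIn S V := fun z =>
    ⟨map_mem hδ _, Subgroup.mem_centralizer_iff.2 fun v hv => by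
      rw [show v = δ (Subgroup.inclusion le_sup_left ⟨v, hv⟩) from (hδV ⟨v, hv⟩).symm]
      show δ _ * δ _ = δ _ * δ _
      rw [← map_mul, ← map_mul]
      exact congrArg δ (Subtype.ext (Subgroup.mem_centralizer_iff.1
        ((Subgroup.zpowers_le.2 hy) z.2).2 v hv))⟩
  have hmem : δ.comp (Subgroup.inclusion le_sup_right) ∈ F.centralizerHom V (Subgroup.zpowers y) :=
    ⟨restrict_mem hδ _, Subgroup.zpowers_le.2 hy, hδC, _, restrict_mem hδ hzy, fun z => rfl,
      fun v => hδV v⟩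
  have h3 := stable_strongly_closed hS hF hT hV hC ht htN hmem ⟨y, Subgroup.mem_zpowers y⟩
  rw [show δ.comp (Subgroup.inclusion le_sup_right) ⟨y, Subgroup.mem_zpowers y⟩ = x' from hδy] at h3
  change _ = y⁻¹ * (t * y * t⁻¹) at h3
  rw [commute_of_le_centralizerIn hY ht hx'Y, mul_inv_cancel_right, inv_mul_cancel, eq_comm,
    inv_mul_eq_one] at h3
  exact h3.symm

/-- The fixed subgroup is strongly closed. -/
theorem stronglyClosed_fixSub [Finite S] [hp : Fact p.Prime] (hS : IsPGroup p S) (hF : F.IsSaturated p)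
    (hE : E.IsNormalIn F p) : F.StronglyClosed (fixSub E F) := by
  classical
  have hfix := isFixed_fixSub hS hF hE
  have hT := hE.1.2.2.2.1
  have hinv := stronglyInvariant_of_isInvariantIn hE.1.2.2
  have hTS := hT.1
  have hTn := stronglyClosed_le_normalizer hT
  have hYS : fixSub E F ≤ S := fixSub_le.trans (centralizerIn_le S T)
  suffices hle : ∀ P, F.Hom P ⊆ (preserveSystem hT hinv hfix).Hom P by
    exact ⟨hYS, fun R hR φ hφ x => ((hle R hφ).2 x).2 (hR x.2)⟩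
  refine Descent.hom_le_of_aut_centric hS hF ?_
  intro Q hQn hQc hbig α hα
  have hQS : Q ≤ S := hQn.1
  have : Finite Q := finite_of_le hQS
  have : Finite (MulAut Q) := finite_mulAut
  have hrec := isReceptive_of_isFullyNormalized hS hF hQn
  suffices hfwd : ∀ β ∈ F.autGroup Q, ∀ x : Q, (x : Ω) ∈ fixSub E F → ((β x : Q) : Ω) ∈ fixSub E F by
    refine (mem_autGroup_iff_hom hQS).2 ⟨(mem_autGroup_iff_hom hQS).1 hα, fun x => ⟨fun h => ?_, hfwd α hα x⟩⟩
    have h1 := hfwd _ (inv_mem hα) (α x) h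
    rwa [MulAut.inv_apply_self] at h1
  clear hα α
  intro α hα x hxY
  by_cases hTQ : T ≤ Q
  · exact apply_mem_fixSub hT hinv hfix ((mem_autGroup_iff_hom hQS).1 hα) hTQ x hxY
  -- extensions to larger subgroups
  have hextend : ∀ β ∈ F.autGroup Q, ∀ u : Ω, u ∈ S → ∀ huN : u ∈ Subgroup.normalizer (Q : Set Ω),
      u ∉ Q → (β * conjAut Q u huN * β⁻¹ ∈ autInducedBy S Q) →
      ∀ z : Q, (z : Ω) ∈ fixSub E F → ((β z : Q) : Ω) ∈ fixSub E F := by
    intro β hβ u huS huN huQ hu z hz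
    have hβh := (mem_autGroup_iff_hom hQS).1 hβ
    obtain ⟨ψ, hψ, hag⟩ := hrec.2 Q _ hβh (range_subtype_comp β)
    have huE : u ∈ extender S Q (Q.subtype.comp β.toMonoidHom) :=
      (mem_extender_iff_congr (β : Q ≃* Q) (fun _ => rfl) huS huN).2 (by
        have : MulAut.congr (β : Q ≃* Q) (conjAut Q u huN) = β * conjAut Q u huN * β⁻¹ :=
          MulEquiv.ext fun _ => rfl
        rw [this]
        exact hu)
    have hQE : Q ≤ extender S Q (Q.subtype.comp β.toMonoidHom) :=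
      le_extender hQS fun y => map_mem hβh y
    have hlt : Q < extender S Q (Q.subtype.comp β.toMonoidHom) :=
      lt_of_le_not_ge hQE fun h => huQ (h huE)
    have h1 := (hbig _ (Descent.card_lt_card_of_lt (dom_le hψ) hlt) hψ).2 ⟨z, hQE z.2⟩
    rw [hag z z.2 (hQE z.2)] at h1
    exact h1.2 hz
  set V := Q ⊓ T with hVdef
  let K : Subgroup (F.autGroup Q) :=
    { carrier := {κ | (∀ y : Q, (y : Ω) ∈ T → (κ : MulAut Q) y = y) ∧
        ∀ y : Q, (y : Ω)⁻¹ * (((κ : MulAut Q) y : Q) : Ω) ∈ T}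
      one_mem' := ⟨fun y _ => rfl, fun y => by simp [T.one_mem]⟩
      mul_mem' := fun {a b} ha hb => ⟨fun y hy => by
          show (a : MulAut Q) ((b : MulAut Q) y) = y
          rw [hb.1 y hy, ha.1 y hy],
        fun y => by
          have := T.mul_mem (hb.2 y) (ha.2 ((b : MulAut Q) y))
          simpa [mul_assoc] using this⟩
      inv_mem' := fun {a} ha => ⟨fun y hy => (a : MulAut Q).injective (by
          show (a : MulAut Q) ((a : MulAut Q)⁻¹ y) = (a : MulAut Q) y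
          rw [MulAut.apply_inv_self, ha.1 y hy]),
        fun y => by
          have := T.inv_mem (ha.2 ((a : MulAut Q)⁻¹ y))
          simpa [mul_inv_rev] using this⟩ }
  have hKn : K.Normal := ⟨fun κ hκ β => ⟨fun y hy => by
      have h1 := hκ.1 ((β : MulAut Q)⁻¹ y)
        (stronglyClosed_apply_mem hT ((mem_autGroup_iff_hom hQS).1 (inv_mem β.2)) y hy)
      show (β : MulAut Q) ((κ : MulAut Q) ((β : MulAut Q)⁻¹ y)) = y
      rw [h1, MulAut.apply_inv_self],
    fun y => by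
      have h1 := hκ.2 ((β : MulAut Q)⁻¹ y)
      set w : Q := ((β : MulAut Q)⁻¹ y)⁻¹ * (κ : MulAut Q) ((β : MulAut Q)⁻¹ y) with hw
      have h2 := stronglyClosed_apply_mem hT ((mem_autGroup_iff_hom hQS).1 β.2) w h1
      change (((β : MulAut Q) w : Q) : Ω) ∈ T at h2
      rw [hw, map_mul, map_inv, MulAut.apply_inv_self] at h2
      exact h2⟩⟩
  obtain ⟨e₀, he₀⟩ := IsPGroup.iff_card.1 (hS.to_le hQS)
  have hKp : IsPGroup p K := fun κ => ⟨e₀, Subtype.ext (Subtype.ext (MulEquiv.ext fun y => by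
    have hfixw := κ.2.1 (y⁻¹ * ((κ : F.autGroup Q) : MulAut Q) y) (κ.2.2 y)
    show (((κ : F.autGroup Q) : MulAut Q) ^ p ^ e₀) y = y
    rw [CfsgLib.FusionQuot.pow_apply_of_moves_to_fixed _ y hfixw, ← he₀, pow_card_eq_one', mul_one]))⟩
  obtain ⟨-, PA, hPA⟩ := isFullyAutomized_of_isFullyNormalized hS hF hQn
  by_cases hK : K.map (F.autGroup Q).subtype ≤ Cfsg.Inn Q
  swap
  · obtain ⟨_, ⟨κ, hκ, rfl⟩, hκi⟩ := SetLike.not_le_iff_exists.1 hK
    have hκS := CfsgLib.FusionQuot.mem_sylow_of_normal PA hKp hκ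
    rw [hPA] at hκS
    obtain ⟨u, huN, huS, heq⟩ := exists_eq_conjAut (Subgroup.mem_subgroupOf.1 hκS)
    have huQ : u ∉ Q := fun hu => hκi ⟨⟨u, hu⟩, (MulEquiv.ext fun y => Subtype.ext (by
      show u * (y : Ω) * u⁻¹ = (((κ : MulAut Q) y : Q) : Ω)
      rw [heq, conjAut_apply]))⟩
    refine hextend α hα u huS huN huQ ?_ x hxY
    have hc := CfsgLib.FusionQuot.mem_sylow_of_normal PA hKp (hKn.conj_mem κ hκ ⟨α, hα⟩)
    rw [hPA] at hc
    rw [← heq]
    exact Subgroup.mem_subgroupOf.1 hc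
  -- the elements of `N_T(Q)` centralize what is moved into the fixed subgroup
  have hclaim : ∀ (γ : MulAut Q), γ ∈ F.autGroup Q → ∀ y : Q, ((γ y : Q) : Ω) ∈ fixSub E F →
      ∀ t ∈ T, t ∈ Subgroup.normalizer (Q : Set Ω) → t * (y : Ω) * t⁻¹ = y := by
    intro γ hγ y hy t ht htN
    obtain ⟨V', hVV', hV'n⟩ := exists_isFullyNormalized F (inf_le_left.trans hQS : V ≤ S)
    obtain ⟨e, he, ψ, hψ, hψN, hag⟩ := exists_normalizer_map hS hF hV'n hVV'
    have hQN : Q ≤ normalizerIn S V := fun z hz => ⟨hQS hz, Subgroup.mem_normalizer_iff.2 fun w => by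
      rw [Subgroup.mem_inf, Subgroup.mem_inf]
      exact and_congr (Subgroup.mem_normalizer_iff.1 (Subgroup.le_normalizer hz) w)
        (Subgroup.mem_normalizer_iff.1 (hTn (hQS hz)) w)⟩
    have htNV : t ∈ normalizerIn S V := ⟨hTS ht, Subgroup.mem_normalizer_iff.2 fun w => by
      rw [Subgroup.mem_inf, Subgroup.mem_inf]
      exact and_congr (Subgroup.mem_normalizer_iff.1 htN w)
        (Subgroup.mem_normalizer_iff.1 (hTn (hTS ht)) w)⟩
    set r := ψ.comp (Subgroup.inclusion hQN) with hrdef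
    have hr : r ∈ F.Hom Q := restrict_mem hψ hQN
    obtain ⟨eQ, heQ, heQx⟩ := exists_iso hr rfl
    have heQ' : ∀ z : Q, (eQ z : Ω) = ψ ⟨z, hQN z.2⟩ := heQx
    obtain ⟨ρ, hρ, hρinv⟩ := F.inv_mem hr
    have hV'T : V' ≤ T := fun w hw => by
      obtain ⟨v, hv⟩ := e.surjective ⟨w, hw⟩
      rw [show w = ((e v : V') : Ω) by rw [hv]]
      exact stronglyClosed_apply_mem hT he v (Subgroup.mem_inf.1 v.2).2
    have hV'eq : ∀ w : Ω, w ∈ V' ↔ w ∈ r.range ∧ w ∈ T := by
      intro w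
      constructor
      · intro hw
        refine ⟨?_, hV'T hw⟩
        obtain ⟨v, hv⟩ := e.surjective ⟨w, hw⟩
        exact ⟨⟨v, (Subgroup.mem_inf.1 v.2).1⟩, (hag v).trans (congrArg Subtype.val hv)⟩
      · rintro ⟨⟨z, rfl⟩, hzT⟩
        have hzT' : (z : Ω) ∈ T := by
          have h1 := stronglyClosed_apply_mem hT hρ ⟨r z, ⟨z, rfl⟩⟩ hzT
          rwa [hρinv] at h1
        show r z ∈ V'
        rw [show r z = _ from hag ⟨z, z.2, hzT'⟩]
        exact (e _).2
    have hQ'S : r.range ≤ S := range_le hr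
    have hQ'c : centralizerIn S r.range ≤ r.range := hQc.2 _ (isConj_of_mem hr)
    have hC : centralizerIn T V' ≤ V' := by
      intro u hu
      rw [hV'eq]
      refine ⟨?_, hu.1⟩
      set M := r.range ⊔ centralizerIn T V' with hM
      have hMS : M ≤ S := sup_le hQ'S ((centralizerIn_le T V').trans hTS)
      have : Finite M := finite_of_le hMS
      have hV'N : ∀ z ∈ r.range, z ∈ Subgroup.normalizer (V' : Set Ω) := fun z hz =>
        Subgroup.mem_normalizer_iff.2 fun w => by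
          rw [hV'eq, hV'eq]
          exact and_congr (Subgroup.mem_normalizer_iff.1 (Subgroup.le_normalizer hz) w)
            (Subgroup.mem_normalizer_iff.1 (hTn (hQ'S hz)) w)
      have hMn : M ≤ Subgroup.normalizer ((centralizerIn T V' : Subgroup Ω) : Set Ω) := by
        refine sup_le (fun z hz => ?_) Subgroup.le_normalizer
        have key : ∀ z ∈ r.range, ∀ c ∈ centralizerIn T V', z * c * z⁻¹ ∈ centralizerIn T V' :=
          fun z hz c hc => ⟨(Subgroup.mem_normalizer_iff.1 (hTn (hQ'S hz)) c).1 hc.1,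
            Subgroup.mem_centralizer_iff.2 fun v hv => by
              have h1 : z⁻¹ * v * z ∈ V' := by
                simpa using conj_mem_of_mem_normalizer (inv_mem (hV'N z hz)) hv
              have h2 := Subgroup.mem_centralizer_iff.1 hc.2 _ h1
              calc v * (z * c * z⁻¹) = z * (z⁻¹ * v * z * c) * z⁻¹ := by group
                _ = z * (c * (z⁻¹ * v * z)) * z⁻¹ := by rw [h2]
                _ = _ := by group⟩
        exact Subgroup.mem_normalizer_iff.2 fun c => ⟨key z hz c, fun h => by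
          simpa [mul_assoc] using key z⁻¹ (inv_mem hz) _ h⟩
      refine le_of_normalizer_inf_le (S := M) (p := p) (hS.to_le hMS) le_sup_left le_sup_right hMn
        (fun c hc hcN => ?_) hu
      refine mem_of_conjAut_mem_inn hQ'c hQ'S (hTS hc.1) hcN ?_
      set β := MulAut.congr eQ.symm (conjAut r.range c hcN) with hβ
      have hβF : β ∈ F.autGroup Q :=
        heQ.symm.congr_mem (autInducedBy_le_autGroup F hQ'S (conjAut_mem_autInducedBy (hTS hc.1) hcN))
      have hβK : (⟨β, hβF⟩ : F.autGroup Q) ∈ K := by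
        constructor
        · intro z hz
          show eQ.symm (conjAut r.range c hcN (eQ z)) = z
          have hzV : (eQ z : Ω) ∈ V' := by
            rw [heQ']
            exact (hag ⟨z, z.2, hz⟩).symm ▸ (e _).2
          rw [show conjAut r.range c hcN (eQ z) = eQ z from Subtype.ext (by
            rw [conjAut_apply, ← Subgroup.mem_centralizer_iff.1 hc.2 _ hzV, mul_inv_cancel_right]),
            MulEquiv.symm_apply_apply]
        · intro z
          have h1 : ((eQ z)⁻¹ * conjAut r.range c hcN (eQ z) : r.range).1 ∈ T := by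
            show (eQ z : Ω)⁻¹ * (c * (eQ z : Ω) * c⁻¹) ∈ T
            have h2 := conj_mem_of_mem_normalizer (hTn (S.inv_mem (hQ'S (eQ z).2))) hc.1
            simpa [mul_assoc] using T.mul_mem h2 (T.inv_mem hc.1)
          have h3 := stronglyClosed_apply_mem hT heQ.symm _ h1
          change ((eQ.symm ((eQ z)⁻¹ * conjAut r.range c hcN (eQ z)) : Q) : Ω) ∈ T at h3
          rw [map_mul, map_inv, MulEquiv.symm_apply_apply] at h3
          exact h3
      obtain ⟨q, hq⟩ := hK ⟨_, hβK, rfl⟩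
      refine ⟨eQ q, MulEquiv.ext fun w => ?_⟩
      obtain ⟨z, rfl⟩ := eQ.surjective w
      have h4 : q * z * q⁻¹ = eQ.symm (conjAut r.range c hcN (eQ z)) :=
        congrArg (fun a : MulAut Q => a z) hq
      show eQ q * eQ z * (eQ q)⁻¹ = _
      rw [← map_mul, ← map_inv, ← map_mul, h4, MulEquiv.apply_symm_apply]
    set t' := ψ ⟨t, htNV⟩ with ht'
    have ht'T : t' ∈ T := stronglyClosed_apply_mem hT hψ ⟨t, htNV⟩ ht
    set y' := ψ ⟨y, hQN y.2⟩ with hy'
    have hyV : ∀ v : Ω, v ∈ V → v * (y : Ω) = (y : Ω) * v := by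
      intro v hv
      have h1 : ((γ ⟨v, hv.1⟩ : Q) : Ω) ∈ T :=
        stronglyClosed_apply_mem hT ((mem_autGroup_iff_hom hQS).1 hγ) ⟨v, hv.1⟩ hv.2
      have h2 := commute_of_le_centralizerIn fixSub_le h1 hy
      have h3 : γ (⟨v, hv.1⟩ * y) = γ (y * ⟨v, hv.1⟩) := by
        rw [map_mul, map_mul]; exact Subtype.ext h2
      exact congrArg Subtype.val (γ.injective h3)
    have hy'C : y' ∈ centralizerIn S V' := by
      refine ⟨map_mem hψ _, Subgroup.mem_centralizer_iff.2 fun w hw => ?_⟩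
      obtain ⟨v, hv⟩ := e.surjective ⟨w, hw⟩
      rw [show w = ψ ⟨v, le_normalizerIn (isConj_le_left hVV') v.2⟩ from
        (congrArg Subtype.val hv).symm.trans (hag v).symm, hy', ← map_mul, ← map_mul]
      exact congrArg ψ (Subtype.ext (hyV v v.2))
    have hγh := (mem_autGroup_iff_hom hQS).1 hγ
    have hρm : ∀ z, ρ z ∈ Q := by rintro ⟨_, z, rfl⟩; rw [hρinv]; exact z.2
    have hθ := F.comp_mem hρ hγh hρm
    have h := commute_of_apply_mem_fixSub hS hF hE hfix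
      (isFullyCentralized_of_isFullyNormalized hS hF hV'n) hV'T hC ht'T (hψN _).2 hy'C
      (fun w hw => ((hV'eq w).1 hw).1) ⟨y, rfl⟩ hθ (fun v => by
        obtain ⟨⟨z, hz⟩, hzT⟩ := (hV'eq v).1 v.2
        show ((γ ⟨ρ ⟨(v : Ω), _⟩, _⟩ : Q) : Ω) ∈ T
        refine stronglyClosed_apply_mem hT hγh _ ?_
        exact stronglyClosed_apply_mem hT hρ _ hzT) (by
        show ((γ ⟨ρ ⟨r y, _⟩, _⟩ : Q) : Ω) ∈ _
        rw [show (⟨ρ ⟨r y, ⟨y, rfl⟩⟩, hρm _⟩ : Q) = y from Subtype.ext (hρinv y)]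
        exact hy)
    rw [ht', hy', ← map_inv, ← map_mul, ← map_mul] at h
    exact congrArg Subtype.val (hom_inj hψ h)
  -- the Frattini argument
  set AT : Subgroup (F.autGroup Q) := (autInducedBy T Q).subgroupOf (F.autGroup Q)
  set M := Subgroup.normalClosure (AT : Set (F.autGroup Q))
  have hMfix : ∀ m ∈ M, (m : MulAut Q) x = x := by
    have hle : M ≤
        ({ carrier := {m | (m : MulAut Q) x = x}
           one_mem' := rfl
           mul_mem' := fun {a b} ha hb => by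
             show (a : MulAut Q) ((b : MulAut Q) x) = x
             rw [show (b : MulAut Q) x = x from hb, show (a : MulAut Q) x = x from ha]
           inv_mem' := fun {a} ha => (a : MulAut Q).injective (by
             show (a : MulAut Q) ((a : MulAut Q)⁻¹ x) = (a : MulAut Q) x
             rw [MulAut.apply_inv_self, show (a : MulAut Q) x = x from ha]) } :
          Subgroup (F.autGroup Q)) := by
      refine (Subgroup.closure_le _).2 fun c hc => ?_
      obtain ⟨a, ha, hac⟩ := Group.mem_conjugatesOfSet_iff.1 hc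
      obtain ⟨γ, rfl⟩ := isConj_iff.1 hac
      obtain ⟨t, htN, ht, heq⟩ := exists_eq_conjAut (Subgroup.mem_subgroupOf.1 ha)
      show (γ : MulAut Q) ((a : MulAut Q) ((γ : MulAut Q)⁻¹ x)) = x
      rw [heq, show conjAut Q t htN ((γ : MulAut Q)⁻¹ x) = (γ : MulAut Q)⁻¹ x from
        Subtype.ext (hclaim γ γ.2 _ (by rw [MulAut.apply_inv_self]; exact hxY) t ht htN),
        MulAut.apply_inv_self]
    exact fun m hm => hle hm
  obtain ⟨t, ⟨htS, htN⟩, htQ⟩ : ∃ t, (t ∈ T ∧ t ∈ Subgroup.normalizer (Q : Set Ω)) ∧ t ∉ Q := by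
    by_contra hne
    push_neg at hne
    exact hTQ (le_of_normalizer_inf_le hS hQS hTS hTn fun z hz hzN => hne z ⟨hz, hzN⟩)
  obtain ⟨PM, hPM⟩ := isSylowIn_inf_normal PA M
  have htop := Sylow.normalizer_sup_eq_top PM
  have hmap : ((PM : Subgroup M).map M.subtype) = (PA : Subgroup (F.autGroup Q)) ⊓ M := by
    rw [hPM, Subgroup.map_subgroupOf_eq_of_le inf_le_right]
  rw [hmap] at htop
  have hmem : (⟨α, hα⟩ : F.autGroup Q) ∈
      Subgroup.normalizer (((PA : Subgroup (F.autGroup Q)) ⊓ M : Subgroup (F.autGroup Q)) :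
        Set (F.autGroup Q)) ⊔ M := by
    rw [htop]; exact Subgroup.mem_top _
  obtain ⟨n, hn, m, hm, hnm⟩ := Subgroup.mem_sup_of_normal_right.1 hmem
  have hval : α x = (n : MulAut Q) ((m : MulAut Q) x) :=
    (congrArg (fun a : F.autGroup Q => (a : MulAut Q) x) hnm).symm
  rw [hval, hMfix m hm]
  refine hextend n n.2 t (hTS htS) htN htQ ?_ x hxY
  set c : F.autGroup Q := ⟨conjAut Q t htN,
    autInducedBy_le_autGroup F hQS (conjAut_mem_autInducedBy (hTS htS) htN)⟩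
  have hc : c ∈ (PA : Subgroup (F.autGroup Q)) ⊓ M := by
    refine ⟨?_, Subgroup.subset_normalClosure (conjAut_mem_autInducedBy htS htN)⟩
    rw [hPA]
    exact conjAut_mem_autInducedBy (hTS htS) htN
  have h1 := ((Subgroup.mem_normalizer_iff.1 hn c).1 hc).1
  rw [hPA] at h1
  exact Subgroup.mem_subgroupOf.1 h1

end CfsgLib.Fusion.CenSub
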