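import Cfsg.Agent.Lib.Fusion.Centralizer.Stable
import Cfsg.Agent.Lib.Fusion.Invariant
import Cfsg.Agent.Lib.Fusion.NormalSubgroup
import Cfsg.Agent.Lib.Transfer.PResidual

/-!
# The centralizer in the Sylow group of a normal subsystem
-/

set_option autoImplicit false
set_option linter.unusedSectionVars false

namespace CfsgLib.Fusion.CenSub

open Cfsg Cfsg.FusionSystem CfsgLib.Fusion

variable {Ω : Type*} [Group Ω] {S T P Q X : Subgroup Ω} {F : Cfsg.FusionSystem S}
  {E : Cfsg.FusionSystem T} {p : ℕ}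

/-- Every map of `E` extends in `F` to a map fixing `X`. -/
def IsFixed (E : Cfsg.FusionSystem T) (F : Cfsg.FusionSystem S) (X : Subgroup Ω) : Prop :=
  X ≤ centralizerIn S T ∧ ∀ (P : Subgroup Ω) (φ : P →* Ω), φ ∈ E.Hom P →
    ∃ ψ ∈ F.Hom (P ⊔ X), (∀ x : P, ψ (Subgroup.inclusion le_sup_left x) = φ x) ∧
      ∀ x : X, ψ (Subgroup.inclusion le_sup_right x) = x

/-- The join of all fixed subgroups. -/
def fixSub (E : Cfsg.FusionSystem T) (F : Cfsg.FusionSystem S) : Subgroup Ω :=
  sSup {X | IsFixed E F X}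

theorem fixSub_le : fixSub E F ≤ centralizerIn S T := sSup_le fun _ h => h.1

theorem IsFixed.le_fixSub (h : IsFixed E F X) : X ≤ fixSub E F := le_sSup h

theorem IsFixed.mono {Y : Subgroup Ω} (h : IsFixed E F X) (hYX : Y ≤ X) : IsFixed E F Y := by
  refine ⟨hYX.trans h.1, fun P φ hφ => ?_⟩
  obtain ⟨ψ, hψ, hag, hfix⟩ := h.2 P φ hφ
  exact ⟨_, restrict_mem hψ (sup_le_sup_left hYX P), fun x => hag x,
    fun x => hfix ⟨x, hYX x.2⟩⟩

theorem commute_of_le_centralizerIn {Y : Subgroup Ω} (hY : Y ≤ centralizerIn S T) {x y : Ω}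
    (hx : x ∈ T) (hy : y ∈ Y) : x * y = y * x :=
  Subgroup.mem_centralizer_iff.1 (hY hy).2 x hx

theorem le_centralizerIn_of_fix {Y : Subgroup Ω} (hTS : T ≤ S) (hY : Y ≤ centralizerIn S T)
    (hP : P ≤ T) : P ≤ centralizerIn S Y := fun x hx =>
  ⟨hTS (hP hx), Subgroup.mem_centralizer_iff.2 fun _ hy => (commute_of_le_centralizerIn hY (hP hx) hy).symm⟩

theorem isFixed_iff (hTS : T ≤ S) (hEF : E.IsSubsystemOf F) (hX : X ≤ centralizerIn S T) :
    IsFixed E F X ↔ ∀ P, E.Hom P ⊆ F.centralizerHom X P := by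
  constructor
  · intro h P φ hφ
    exact ⟨hEF P hφ, le_centralizerIn_of_fix hTS hX (E.le_of_mem hφ).1,
      fun x => le_centralizerIn_of_fix hTS hX le_rfl ((E.le_of_mem hφ).2 x), h.2 P φ hφ⟩
  · exact fun h => ⟨hX, fun P φ hφ => (h P hφ).2.2.2⟩

/-- A subgroup conjugate in `F` to a centric subgroup of `E` meets its centralizer in itself. -/
theorem centralizerIn_le_of_conj (hEinv : E.IsInvariantIn F) (hQ : E.IsCentric Q) {φ : Q →* Ω}
    (hφ : φ ∈ F.Hom Q) : centralizerIn T φ.range ≤ φ.range := by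
  obtain ⟨-, -, -, hfrat⟩ := hEinv
  obtain ⟨α, hα, φ₀, hφ₀, hx⟩ := hfrat Q hQ.1 φ hφ
  intro c hc
  obtain ⟨c₀, hc₀⟩ := α.surjective ⟨c, hc.1⟩
  have hc₀C : (c₀ : Ω) ∈ centralizerIn T φ₀.range := by
    refine ⟨c₀.2, Subgroup.mem_centralizer_iff.2 ?_⟩
    rintro _ ⟨q, rfl⟩
    have h0 : φ₀ q ∈ T := (E.le_of_mem hφ₀).2 q
    have h1 := Subgroup.mem_centralizer_iff.1 hc.2 (φ q) ⟨q, rfl⟩
    rw [hx q h0, show c = ((α c₀ : T) : Ω) by rw [hc₀]] at h1
    have h2 : α (⟨φ₀ q, h0⟩ * c₀) = α (c₀ * ⟨φ₀ q, h0⟩) := by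
      rw [map_mul, map_mul]; exact Subtype.ext h1
    exact congrArg Subtype.val (α.injective h2)
  obtain ⟨q, hq⟩ := hQ.2 φ₀.range ⟨φ₀, hφ₀, rfl⟩ hc₀C
  refine ⟨q, ?_⟩
  rw [hx q ((E.le_of_mem hφ₀).2 q)]
  have : (⟨φ₀ q, (E.le_of_mem hφ₀).2 q⟩ : T) = c₀ := Subtype.ext hq
  rw [this, hc₀]

/-- The conjugate of an automorphism induced by `T` fixes all fixed subgroups, at a receptive subgroup. -/
theorem exists_ext_conj_fix [Finite S] [Fact p.Prime] (hS : IsPGroup p S) (hF : F.IsSaturated p)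
    (hT : F.StronglyClosed T) (hQ : F.IsReceptive Q) (hC : centralizerIn T Q ≤ Q) {t : Ω} (ht : t ∈ T)
    (htN : t ∈ Subgroup.normalizer (Q : Set Ω)) {γ : MulAut Q} (hγ : γ ∈ F.autGroup Q)
    (𝒳 : Set (Subgroup Ω))
    (h𝒳 : ∀ X ∈ 𝒳, X ≤ centralizerIn S Q ∧ (∀ x ∈ X, t * x * t⁻¹ = x) ∧
      ∃ ψ ∈ F.Hom (Q ⊔ X), (∀ q : Q, ψ (Subgroup.inclusion le_sup_left q) = (γ q : Ω)) ∧
        ∀ x : X, ψ (Subgroup.inclusion le_sup_right x) = x) :
    ∃ ψ ∈ F.Hom (Q ⊔ sSup 𝒳),
      (∀ q : Q, ψ (Subgroup.inclusion le_sup_left q) =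
        ((γ * conjAut Q t htN * γ⁻¹) q : Q)) ∧
      ∀ x : ↥(sSup 𝒳), ψ (Subgroup.inclusion le_sup_right x) = x := by
  set U := Q ⊔ centralizerIn S Q with hU
  have hQS : Q ≤ S := hQ.1
  have hUS : U ≤ S := sup_le hQS (centralizerIn_le S Q)
  have : Finite U := finite_of_le hUS
  have hγh := (mem_autGroup_iff_hom hQS).1 hγ
  have hγr : (Q.subtype.comp γ.toMonoidHom).range = Q := range_subtype_comp γ
  obtain ⟨G₀, hG₀, hG₀Q, hG₀C⟩ := exists_ext_centralizer hQ hγh hγr
  obtain ⟨G, hGF, hGx⟩ := exists_aut hG₀ (range_eq_of_le (hom_inj hG₀) (forall_mem_of_sup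
    (fun q => le_sup_left (b := centralizerIn S Q) ((hG₀Q q).symm ▸ (γ q).2))
    (fun c => le_sup_right (a := Q) (hG₀C c))))
  have htS : t ∈ S := hT.1 ht
  have htC : t ∈ Subgroup.normalizer ((centralizerIn S Q : Subgroup Ω) : Set Ω) := by
    have key : ∀ u, u ∈ S → u ∈ Subgroup.normalizer (Q : Set Ω) → ∀ c ∈ centralizerIn S Q,
        u * c * u⁻¹ ∈ centralizerIn S Q := fun u huS hu c hc =>
      ⟨S.mul_mem (S.mul_mem huS hc.1) (S.inv_mem huS), Subgroup.mem_centralizer_iff.2 fun q hq => by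
        have h1 : u⁻¹ * q * u ∈ Q := by simpa using conj_mem_of_mem_normalizer (inv_mem hu) hq
        have h2 := Subgroup.mem_centralizer_iff.1 hc.2 _ h1
        calc q * (u * c * u⁻¹) = u * (u⁻¹ * q * u * c) * u⁻¹ := by group
          _ = u * (c * (u⁻¹ * q * u)) * u⁻¹ := by rw [h2]
          _ = _ := by group⟩
    exact Subgroup.mem_normalizer_iff.2 fun c => ⟨key t htS htN c, fun h => by
      simpa [mul_assoc] using key t⁻¹ (S.inv_mem htS) (inv_mem htN) _ h⟩
  have htU : t ∈ Subgroup.normalizer (U : Set Ω) := normalizer_le_sup htN htC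
  set g := G * conjAut U t htU * G⁻¹ with hg
  have hgF : g ∈ F.autGroup U := mul_mem (mul_mem hGF
    (autInducedBy_le_autGroup F hUS (conjAut_mem_autInducedBy htS htU))) (inv_mem hGF)
  have hGinv : ∀ q : Q, G⁻¹ (Subgroup.inclusion le_sup_left q) =
      Subgroup.inclusion le_sup_left (γ⁻¹ q) := fun q => G.injective (by
    rw [MulAut.apply_inv_self]
    exact Subtype.ext ((hGx _).trans ((hG₀Q _).trans (by simp))).symm)
  have hle : sSup 𝒳 ≤ centralizerIn S Q := sSup_le fun X hX => (h𝒳 X hX).1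
  have hgfix : sSup 𝒳 ≤ ((U.subtype.comp g.toMonoidHom).eqLocus U.subtype).map U.subtype := by
    refine sSup_le fun X hX x hx => ?_
    obtain ⟨hXC, hXt, ψ, hψ, hψQ, hψX⟩ := h𝒳 X hX
    refine ⟨⟨x, le_sup_right (a := Q) (hXC hx)⟩, ?_, rfl⟩
    set xU : U := ⟨x, le_sup_right (a := Q) (hXC hx)⟩ with hxU
    have hQX : Q ⊔ X ≤ U := sup_le le_sup_left (hXC.trans le_sup_right)
    have hψU : ∀ y, ψ y ∈ U := forall_mem_of_sup
      (fun q => by rw [hψQ]; exact le_sup_left (b := centralizerIn S Q) (γ q).2)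
      (fun y => by rw [hψX]; exact le_sup_right (a := Q) (hXC y.2))
    have hδ := mem_of_comp hψ ((mem_autGroup_iff_hom hUS).1 (inv_mem hGF)) hψU
      ((U.subtype.comp (G⁻¹ : MulAut U).toMonoidHom).comp (ψ.codRestrict U hψU)) fun _ => rfl
    set δ := (U.subtype.comp (G⁻¹ : MulAut U).toMonoidHom).comp (ψ.codRestrict U hψU) with hδdef
    have hzx : Subgroup.zpowers x ≤ X := Subgroup.zpowers_le.2 hx
    have hzQ : Subgroup.zpowers x ⊔ Q ≤ Q ⊔ X := sup_le (hzx.trans le_sup_right) le_sup_left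
    have hδQ : ∀ q : Q, δ (Subgroup.inclusion le_sup_left q) = q := fun q => by
      show ((G⁻¹ ⟨ψ (Subgroup.inclusion le_sup_left q), hψU _⟩ : U) : Ω) = q
      rw [show (⟨ψ (Subgroup.inclusion le_sup_left q), hψU _⟩ : U) =
        Subgroup.inclusion le_sup_left (γ q) from Subtype.ext (hψQ q), hGinv, MulAut.inv_apply_self]
      rfl
    have hδx : ∀ y : Subgroup.zpowers x,
        δ.comp (Subgroup.inclusion (hzx.trans le_sup_right)) y ∈ centralizerIn S Q := fun y =>
      ⟨map_mem hδ _, Subgroup.mem_centralizer_iff.2 fun q hq => by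
        rw [show q = δ (Subgroup.inclusion le_sup_left ⟨q, hq⟩) from (hδQ ⟨q, hq⟩).symm]
        show δ _ * δ _ = δ _ * δ _
        rw [← map_mul, ← map_mul]
        exact congrArg δ (Subtype.ext (Subgroup.mem_centralizer_iff.1 (hXC (hzx y.2)).2 q hq))⟩
    have hmem : δ.comp (Subgroup.inclusion (hzx.trans le_sup_right)) ∈
        F.centralizerHom Q (Subgroup.zpowers x) :=
      ⟨restrict_mem hδ _, hzx.trans hXC, hδx, _, restrict_mem hδ hzQ, fun y => rfl,
        fun q => hδQ q⟩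
    have h1 := stable_strongly_closed hS hF hT (isFullyCentralized_of_isReceptive hQ) hC ht htN hmem
      ⟨x, Subgroup.mem_zpowers x⟩
    have h2 : δ.comp (Subgroup.inclusion (hzx.trans le_sup_right)) ⟨x, Subgroup.mem_zpowers x⟩ =
        ((G⁻¹ xU : U) : Ω) :=
      congrArg (fun z : U => ((G⁻¹ z : U) : Ω)) (Subtype.ext (hψX ⟨x, hx⟩))
    rw [h2] at h1
    change _ = x⁻¹ * (t * x * t⁻¹) at h1
    rw [hXt x hx, inv_mul_cancel, inv_mul_eq_one] at h1
    show ((G (conjAut U t htU (G⁻¹ xU)) : U) : Ω) = x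
    rw [show conjAut U t htU (G⁻¹ xU) = G⁻¹ xU from Subtype.ext h1.symm, MulAut.apply_inv_self]
  have hQY : Q ⊔ sSup 𝒳 ≤ U := sup_le le_sup_left (hle.trans le_sup_right)
  refine ⟨_, restrict_mem ((mem_autGroup_iff_hom hUS).1 hgF) hQY, fun q => ?_, fun x => ?_⟩
  · show ((G (conjAut U t htU (G⁻¹ (Subgroup.inclusion le_sup_left q))) : U) : Ω) = _
    rw [hGinv]
    exact (hGx _).trans ((congrArg G₀ (Subtype.ext rfl)).trans (hG₀Q (conjAut Q t htN (γ⁻¹ q))))
  · obtain ⟨u, hu, hux⟩ := hgfix x.2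
    show ((g (Subgroup.inclusion hQY (Subgroup.inclusion le_sup_right x)) : U) : Ω) = x
    rw [show Subgroup.inclusion hQY (Subgroup.inclusion le_sup_right x) = u from Subtype.ext hux.symm]
    exact hu.trans hux

/-- The subsystem of the maps of `E` extending to maps fixing `Y`. -/
def fixSystem (E : Cfsg.FusionSystem T) (F : Cfsg.FusionSystem S) (Y : Subgroup Ω)
    (hY : Y ≤ centralizerIn S T) (hTS : T ≤ S) : Cfsg.FusionSystem T where
  Hom P := {φ | φ ∈ E.Hom P ∧ φ ∈ F.centralizerHom Y P}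
  le_of_mem h := E.le_of_mem h.1
  injective_of_mem h := E.injective_of_mem h.1
  conj_mem := fun hP hg =>
    ⟨E.conj_mem hP hg, (centralizerSystem F Y (hY.trans (centralizerIn_le S T))).conj_mem
      (le_centralizerIn_of_fix hTS hY hP) (le_centralizerIn_of_fix hTS hY le_rfl hg)⟩
  comp_mem := fun hφ hψ h => ⟨E.comp_mem hφ.1 hψ.1 h,
    (centralizerSystem F Y (hY.trans (centralizerIn_le S T))).comp_mem hφ.2 hψ.2 h⟩
  inv_mem := by
    intro P φ hφ
    obtain ⟨ψ, hψ, hinv⟩ := E.inv_mem hφ.1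
    obtain ⟨ψ', hψ', hinv'⟩ := (centralizerSystem F Y (hY.trans (centralizerIn_le S T))).inv_mem hφ.2
    have heq : ψ' = ψ := MonoidHom.ext fun y => by
      obtain ⟨_, x, rfl⟩ := y
      rw [hinv, hinv']
    exact ⟨ψ, ⟨hψ, heq ▸ hψ'⟩, hinv⟩

/-- The join of the fixed subgroups is fixed. -/
theorem isFixed_fixSub [Finite S] [hp : Fact p.Prime] (hS : IsPGroup p S) (hF : F.IsSaturated p)
    (hE : E.IsNormalIn F p) : IsFixed E F (fixSub E F) := by
  classical
  obtain ⟨⟨hEs, -, hEinv⟩, hext⟩ := hE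
  have hT := hEinv.2.1
  have hEF := hEinv.1
  have hTS := hT.1
  have hTn := stronglyClosed_le_normalizer hT
  have hTp := hS.to_le hTS
  have : Finite T := finite_of_le hTS
  set Y := fixSub E F with hYdef
  have hY : Y ≤ centralizerIn S T := fixSub_le
  have hfc : F.IsFullyNormalized T := ⟨hTS, fun R hR => by
    have : Finite (normalizerIn S T) := finite_of_le (normalizerIn_le S T)
    exact Nat.card_le_card_of_injective (fun x : normalizerIn S R =>
      (⟨x, x.2.1, hTn x.2.1⟩ : normalizerIn S T)) fun a b h => Subtype.ext (congrArg Subtype.val h :)⟩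
  refine (isFixed_iff hTS hEF hY).2 fun P φ hφ => ?_
  refine ((Descent.hom_le_of_aut_centric (E := fixSystem E F Y hY hTS) hTp hEs ?_ P) hφ).2
  intro Q hQn hQc hbig
  have hQT : Q ≤ T := hQn.1
  have : Finite Q := finite_of_le hQT
  have : Finite (MulAut Q) := finite_mulAut
  set D := fixSystem E F Y hY hTS
  have hmemD : ∀ α ∈ E.autGroup Q, (∃ ψ ∈ F.Hom (Q ⊔ Y),
      (∀ q : Q, ψ (Subgroup.inclusion le_sup_left q) = (α q : Ω)) ∧
      ∀ y : Y, ψ (Subgroup.inclusion le_sup_right y) = y) → α ∈ D.autGroup Q := fun α hα h =>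
    (mem_autGroup_iff_hom hQT).2 ⟨(mem_autGroup_iff_hom hQT).1 hα,
      hEF Q ((mem_autGroup_iff_hom hQT).1 hα), le_centralizerIn_of_fix hTS hY hQT,
      fun x => le_centralizerIn_of_fix hTS hY hQT (α x).2, h⟩
  obtain ⟨-, PA, hPA⟩ := isFullyAutomized_of_isFullyNormalized hTp hEs hQn
  rcases hQT.eq_or_lt with rfl | hlt
  · -- the whole of `T`
    intro α hα
    set U := Q ⊔ centralizerIn S Q with hU
    have hUS : U ≤ S := sup_le hTS (centralizerIn_le S Q)
    have : Finite U := finite_of_le hUS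
    have : Finite (MulAut U) := finite_mulAut
    have hcop : ∀ a : E.autGroup Q, Nat.Coprime (orderOf a) p → (a : MulAut Q) ∈ D.autGroup Q := by
      intro a ha
      obtain ⟨β, hβ, hβT, hβC⟩ := hext a a.2
      have hβ' : ∀ x : Q, β (Subgroup.inclusion le_sup_left x) =
          Subgroup.inclusion le_sup_left ((a : MulAut Q) x) := fun x => Subtype.ext (hβT x)
      have hCmap : ∀ c : U, (c : Ω) ∈ centralizerIn S Q → ((β c : U) : Ω) ∈ centralizerIn S Q := by
        intro c hc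
        refine ⟨hUS (β c).2, Subgroup.mem_centralizer_iff.2 fun y hy => ?_⟩
        obtain ⟨x, hx⟩ := (a : MulAut Q).surjective ⟨y, hy⟩
        rw [show y = ((β (Subgroup.inclusion le_sup_left x) : U) : Ω) by rw [hβT, hx]]
        show ((β (Subgroup.inclusion le_sup_left x) * β c : U) : Ω) =
          ((β c * β (Subgroup.inclusion le_sup_left x) : U) : Ω)
        rw [← map_mul, ← map_mul]
        exact congrArg (fun z : U => ((β z : U) : Ω)) (Subtype.ext
          (Subgroup.mem_centralizer_iff.1 hc.2 x x.2))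
      have hpow : ∀ n : ℕ, (∀ x : Q, (β ^ n) (Subgroup.inclusion le_sup_left x) =
            Subgroup.inclusion le_sup_left (((a : MulAut Q) ^ n) x)) ∧
          ∀ c : U, (c : Ω) ∈ centralizerIn S Q → (((β ^ n) c : U) : Ω) ∈ centralizerIn S Q ∧
            (c : Ω)⁻¹ * (((β ^ n) c : U) : Ω) ∈ Q ⊓ Subgroup.centralizer (Q : Set Ω) := by
        intro n
        induction n with
        | zero => exact ⟨fun x => rfl, fun c hc => ⟨hc, by simp [one_mem]⟩⟩
        | succ n ih =>
          refine ⟨fun x => ?_, fun c hc => ?_⟩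
          · rw [pow_succ', pow_succ', MulAut.mul_apply, MulAut.mul_apply, ih.1, hβ']
          · obtain ⟨h1, h2⟩ := ih.2 c hc
            rw [pow_succ', MulAut.mul_apply]
            refine ⟨hCmap _ h1, ?_⟩
            have := (Q ⊓ Subgroup.centralizer (Q : Set Ω)).mul_mem h2 (hβC _ h1)
            rwa [mul_assoc, mul_inv_cancel_left] at this
      obtain ⟨k, hk⟩ := CfsgLib.Transfer.exists_pow_coprime_orderOf (p := p) β
      obtain ⟨j, hj⟩ := exists_pow_eq_self_of_coprime (ha.symm.pow_left k)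
      set g := β ^ (p ^ k * j) with hg
      have hgcop : Nat.Coprime (orderOf g) p := by
        rw [hg, pow_mul]; exact hk.coprime_dvd_left (orderOf_pow_dvd j)
      have hgF : g ∈ F.autGroup U := pow_mem hβ _
      have hgT : ∀ x : Q, g (Subgroup.inclusion le_sup_left x) =
          Subgroup.inclusion le_sup_left ((a : MulAut Q) x) := fun x => by
        rw [hg, (hpow _).1, pow_mul,
          show ((a : MulAut Q) ^ p ^ k) ^ j = a from congrArg Subtype.val hj]
      have hgC : ∀ c : centralizerIn S Q,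
          (c : Ω)⁻¹ * ((g (Subgroup.inclusion le_sup_right c) : U) : Ω) ∈ Q ⊓ centralizerIn S Q :=
        fun c => by
          obtain ⟨h1, h2⟩ := (hpow (p ^ k * j)).2 (Subgroup.inclusion le_sup_right c) c.2
          exact ⟨h2.1, (centralizerIn S Q).mul_mem ((centralizerIn S Q).inv_mem c.2) h1⟩
      have hgQ : ∀ x : Q, ((g (Subgroup.inclusion le_sup_left x) : U) : Ω) ∈ Q := fun x => by
        rw [hgT]; exact ((a : MulAut Q) x).2
      have hgh : U.subtype.comp g.toMonoidHom ∈ F.Hom U := (mem_autGroup_iff_hom hUS).1 hgF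
      have hfix : Y ≤ ((U.subtype.comp g.toMonoidHom).eqLocus U.subtype).map U.subtype := by
        refine sSup_le fun X hX x hx => ?_
        have hXC : X ≤ centralizerIn S Q := hX.1
        obtain ⟨ψ, hψ, hψQ, hψX⟩ := hX.2 Q _ ((mem_autGroup_iff_hom le_rfl).1 a.2)
        refine ⟨⟨x, le_sup_right (a := Q) (hXC hx)⟩, ?_, rfl⟩
        set xC : centralizerIn S Q := ⟨x, hXC hx⟩
        have hψU : ∀ y, ψ y ∈ U := forall_mem_of_sup
          (fun q => by rw [hψQ]; exact le_sup_left (b := centralizerIn S Q) ((a : MulAut Q) q).2)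
          (fun y => by rw [hψX]; exact le_sup_right (a := Q) (hXC y.2))
        have hδ := mem_of_comp hψ ((mem_autGroup_iff_hom hUS).1 (inv_mem hgF)) hψU
          ((U.subtype.comp (g⁻¹ : MulAut U).toMonoidHom).comp (ψ.codRestrict U hψU)) fun _ => rfl
        set δ := (U.subtype.comp (g⁻¹ : MulAut U).toMonoidHom).comp (ψ.codRestrict U hψU) with hδdef
        have hzx : Subgroup.zpowers x ≤ X := Subgroup.zpowers_le.2 hx
        have hzQ : Subgroup.zpowers x ⊔ Q ≤ Q ⊔ X := sup_le (hzx.trans le_sup_right) le_sup_left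
        have hδQ : ∀ q : Q, δ (Subgroup.inclusion le_sup_left q) = q := fun q => by
          show ((g⁻¹ ⟨ψ (Subgroup.inclusion le_sup_left q), hψU _⟩ : U) : Ω) = q
          rw [show (⟨ψ (Subgroup.inclusion le_sup_left q), hψU _⟩ : U) =
            g (Subgroup.inclusion le_sup_left q) from
              Subtype.ext ((hψQ q).trans (congrArg Subtype.val (hgT q)).symm),
            MulAut.inv_apply_self]
          rfl
        have hδx : ∀ y : Subgroup.zpowers x,
            δ.comp (Subgroup.inclusion (hzx.trans le_sup_right)) y ∈ centralizerIn S Q := fun y =>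
          ⟨map_mem hδ _, Subgroup.mem_centralizer_iff.2 fun q hq => by
            rw [show q = δ (Subgroup.inclusion le_sup_left ⟨q, hq⟩) from (hδQ ⟨q, hq⟩).symm]
            show δ _ * δ _ = δ _ * δ _
            rw [← map_mul, ← map_mul]
            exact congrArg δ (Subtype.ext (Subgroup.mem_centralizer_iff.1 (hXC (hzx y.2)).2 q hq))⟩
        have hmem : δ.comp (Subgroup.inclusion (hzx.trans le_sup_right)) ∈
            F.centralizerHom Q (Subgroup.zpowers x) :=
          ⟨restrict_mem hδ _, hzx.trans hXC, hδx, _, restrict_mem hδ hzQ, fun y => rfl, fun q => hδQ q⟩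
        have h1 := stable_coprime hS hF (isFullyCentralized_of_isFullyNormalized hS hF hfc) hgF hgQ hgC
          hgcop hmem ⟨x, Subgroup.mem_zpowers x⟩
        set xU : U := ⟨x, le_sup_right (a := Q) (hXC hx)⟩ with hxU
        set y : U := g⁻¹ xU with hy
        have e1 : δ.comp (Subgroup.inclusion (hzx.trans le_sup_right)) ⟨x, Subgroup.mem_zpowers x⟩ =
            (y : Ω) := congrArg (fun z : U => ((g⁻¹ z : U) : Ω)) (Subtype.ext (hψX ⟨x, hx⟩))
        have hgy : ((g y : U) : Ω) = x := by rw [hy, MulAut.apply_inv_self]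
        have h1' : (y : Ω)⁻¹ * x = x⁻¹ * ((g xU : U) : Ω) := by
          refine Eq.trans ?_ h1
          refine congrArg₂ (· * ·) (by rw [e1]) ?_
          exact hgy.symm.trans (congrArg (fun z : U => ((g z : U) : Ω)) (Subtype.ext e1.symm))
        -- the displacement is fixed, so its order is both prime to `p` and a power of `p`
        set w : U := xU⁻¹ * g xU with hw
        have hgw : g w = w := by
          have h3 : y⁻¹ * g y = w := by
            refine Subtype.ext ?_
            show (y : Ω)⁻¹ * ((g y : U) : Ω) = x⁻¹ * ((g xU : U) : Ω)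
            rw [hgy]; exact h1'
          have h4 : g y = xU := Subtype.ext hgy
          rw [h4] at h3
          rw [← h3, map_mul, map_inv, h4]
          rw [← hw] at *
          exact h3.symm
        have hpg := CfsgLib.FusionQuot.pow_apply_of_moves_to_fixed g xU hgw (orderOf g)
        rw [pow_orderOf_eq_one, MulAut.one_apply, left_eq_mul] at hpg
        obtain ⟨m, hm⟩ := (hS.to_le hUS) w
        have hw1 : w = 1 := orderOf_eq_one_iff.1 (Nat.eq_one_of_dvd_coprimes (hgcop.pow_right m)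
          (orderOf_dvd_of_pow_eq_one hpg) (orderOf_dvd_of_pow_eq_one hm))
        show ((g xU : U) : Ω) = x
        rw [show g xU = xU from (inv_mul_eq_one.1 hw1).symm]
      refine hmemD a a.2 ⟨_, restrict_mem hgh (sup_le le_sup_left (hY.trans le_sup_right)),
        fun q => congrArg Subtype.val (hgT q), fun y => ?_⟩
      obtain ⟨u, hu, huy⟩ := hfix y.2
      exact (congrArg (fun z : U => ((g z : U) : Ω)) (Subtype.ext huy.symm)).trans (hu.trans huy)
    have htop : (⊤ : Subgroup (E.autGroup Q)) ≤ (D.autGroup Q).subgroupOf (E.autGroup Q) := by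
      rw [← CfsgLib.Transfer.pResidual_sup_of_sylow PA]
      refine sup_le ((Subgroup.closure_le _).2 fun a ha => hcop a ha) ?_
      rw [hPA]
      exact fun a ha => autInducedBy_le_autGroup D le_rfl ha
    exact htop (Subgroup.mem_top ⟨α, hα⟩)
  -- proper subgroups
  have hrec := isReceptive_of_isFullyNormalized hTp hEs hQn
  set M := Subgroup.normalClosure ((PA : Subgroup (E.autGroup Q)) : Set (E.autGroup Q))
  have hPM : (PA : Subgroup (E.autGroup Q)) ≤ M := Subgroup.subset_normalClosure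
  have hnorm : Subgroup.normalizer (PA : Set (E.autGroup Q)) ≤ (D.autGroup Q).subgroupOf (E.autGroup Q) := by
    intro n hn
    have hniso : IsFIso E ((n : MulAut Q) : Q ≃* Q) := (mem_autGroup_iff hQT).1 n.2
    obtain ⟨ψ, hψ, -, hag⟩ := hniso.exists_extension hrec (le_normalizerIn hQT) le_rfl fun u hu => by
      have hc : (⟨conjAut Q u hu.2, autInducedBy_le_autGroup E hQT
          (conjAut_mem_autInducedBy hu.1 _)⟩ : E.autGroup Q) ∈ (PA : Subgroup (E.autGroup Q)) := by
        rw [hPA]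
        exact conjAut_mem_autInducedBy hu.1 _
      have h1 := (Subgroup.mem_normalizer_iff.1 hn _).1 hc
      rw [hPA] at h1
      exact h1
    exact (mem_autGroup_iff hQT).2 (mem_of_restrict
      (hbig _ (Descent.card_lt_card_of_lt (normalizerIn_le T Q) (lt_normalizerIn hTp hlt)) hψ)
      (le_normalizerIn hQT) _ fun x => (hag x).symm)
  have hconj : ∀ (γ : E.autGroup Q) (u : Ω) (hu : u ∈ T) (huN : u ∈ Subgroup.normalizer (Q : Set Ω)),
      (γ : MulAut Q) * conjAut Q u huN * (γ : MulAut Q)⁻¹ ∈ D.autGroup Q := by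
    intro γ u hu huN
    obtain ⟨Q', hQQ', hQ'n⟩ := exists_isFullyNormalized F (hQT.trans hTS)
    obtain ⟨e, he, ψ, hψ, hψN, hag⟩ := exists_normalizer_map hS hF hQ'n hQQ'
    have hQ'r := isReceptive_of_isFullyNormalized hS hF hQ'n
    have hNS : normalizerIn S Q ≤ S := normalizerIn_le S Q
    have hQN : Q ≤ normalizerIn S Q := le_normalizerIn (hQT.trans hTS)
    have hCN : ∀ {X : Subgroup Ω}, X ≤ centralizerIn S T → X ≤ normalizerIn S Q := fun {X} hX x hx =>
      ⟨(hX hx).1, centralizer_le_normalizer Q (Subgroup.centralizer_le hQT (hX hx).2)⟩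
    set t' := ψ ⟨u, hTS hu, huN⟩ with ht'
    have ht'T : t' ∈ T :=
      hT.2 (T ⊓ normalizerIn S Q) inf_le_left _ (restrict_mem hψ inf_le_right) ⟨u, hu, hTS hu, huN⟩
    have ht'N : t' ∈ Subgroup.normalizer (Q' : Set Ω) := (hψN _).2
    have hC' : centralizerIn T Q' ≤ Q' := by
      have h := centralizerIn_le_of_conj hEinv hQc (φ := Q'.subtype.comp e.toMonoidHom) he
      rwa [range_subtype_comp] at h
    set γ' := MulAut.congr e (γ : MulAut Q) with hγ'
    have hγ'F : γ' ∈ F.autGroup Q' := he.congr_mem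
      ((mem_autGroup_iff_hom (hQT.trans hTS)).2 (hEF Q ((mem_autGroup_iff_hom hQT).1 γ.2)))
    have hψcomm : ∀ (a b : normalizerIn S Q), (a : Ω) * b = b * a → ψ a * ψ b = ψ b * ψ a :=
      fun a b h => by rw [← map_mul, ← map_mul]; exact congrArg ψ (Subtype.ext h)
    let img : Subgroup Ω → Subgroup Ω := fun X => (X.subgroupOf (normalizerIn S Q)).map ψ
    obtain ⟨η, hη, hηQ, hηX⟩ := exists_ext_conj_fix hS hF hT hQ'r hC' ht'T ht'N hγ'F
      (img '' {X | IsFixed E F X}) (by
        rintro _ ⟨X, hX, rfl⟩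
        refine ⟨?_, ?_, ?_⟩
        · rintro _ ⟨x, hx, rfl⟩
          refine ⟨map_mem hψ x, Subgroup.mem_centralizer_iff.2 fun q hq => ?_⟩
          obtain ⟨q₀, hq₀⟩ := e.surjective ⟨q, hq⟩
          rw [show q = ψ ⟨q₀, hQN q₀.2⟩ by rw [hag, hq₀]]
          exact hψcomm _ _ (commute_of_le_centralizerIn hX.1 (hQT q₀.2) hx)
        · rintro _ ⟨x, hx, rfl⟩
          rw [ht', hψcomm _ _ (commute_of_le_centralizerIn hX.1 hu hx), mul_inv_cancel_right]
        · obtain ⟨χ, hχ, hχQ, hχX⟩ := hX.2 Q _ ((mem_autGroup_iff_hom hQT).1 γ.2)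
          have hQX : Q ⊔ X ≤ normalizerIn S Q := sup_le hQN (hCN hX.1)
          have hr := restrict_mem hψ hQX
          obtain ⟨ρ, hρ, hρinv⟩ := F.inv_mem hr
          have hle : Q' ⊔ img X ≤ (ψ.comp (Subgroup.inclusion hQX)).range := by
            refine sup_le (fun q hq => ?_) ?_
            · obtain ⟨q₀, hq₀⟩ := e.surjective ⟨q, hq⟩
              exact ⟨Subgroup.inclusion le_sup_left q₀, (hag q₀).trans (congrArg Subtype.val hq₀)⟩
            · rintro _ ⟨x, hx, rfl⟩
              exact ⟨⟨x, le_sup_right (a := Q) hx⟩, rfl⟩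
          have hρmem : ∀ z, ρ z ∈ Q ⊔ X := by
            rintro ⟨_, z, rfl⟩
            rw [hρinv]; exact z.2
          have hχmem : ∀ z, χ z ∈ normalizerIn S Q := forall_mem_of_sup
            (fun q => by rw [hχQ]; exact hQN ((γ : MulAut Q) q).2)
            (fun x => by rw [hχX]; exact hCN hX.1 x.2)
          have h1 := F.comp_mem hρ hχ hρmem
          have h2 := F.comp_mem h1 hψ (fun z => hχmem _)
          refine ⟨_, restrict_mem h2 hle, fun q => ?_, fun x => ?_⟩
          · obtain ⟨q₀, rfl⟩ := e.surjective q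
            have e1 : ρ ⟨(e q₀ : Ω), hle (le_sup_left (b := img X) (e q₀).2)⟩ = q₀ :=
              (congrArg ρ (Subtype.ext (hag q₀).symm)).trans (hρinv (Subgroup.inclusion le_sup_left q₀))
            show ψ ⟨χ ⟨ρ _, _⟩, _⟩ = ((γ' (e q₀) : Q') : Ω)
            rw [hγ', congr_apply, MulEquiv.symm_apply_apply, ← hag]
            refine congrArg ψ (Subtype.ext ?_)
            show χ _ = _
            exact (congrArg χ (Subtype.ext e1)).trans (hχQ q₀)
          · obtain ⟨x₀, hx₀, hx⟩ := x.2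
            have e1 : ρ ⟨(x : Ω), hle (le_sup_right (a := Q') x.2)⟩ = x₀ :=
              (congrArg ρ (Subtype.ext hx.symm)).trans
                (hρinv ⟨x₀, le_sup_right (a := Q) hx₀⟩)
            show ψ ⟨χ ⟨ρ _, _⟩, _⟩ = x
            rw [← hx]
            refine congrArg ψ (Subtype.ext ?_)
            show χ _ = _
            exact (congrArg χ (Subtype.ext e1)).trans (hχX ⟨x₀, hx₀⟩))
    refine hmemD _ (mul_mem (mul_mem γ.2 (autInducedBy_le_autGroup E hQT
      (conjAut_mem_autInducedBy hu huN))) (inv_mem γ.2)) ?_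
    -- back to `Q`
    have hQY : Q ⊔ Y ≤ normalizerIn S Q := sup_le hQN (hCN hY)
    have hYimg : ∀ y : Y, ψ ⟨y, hCN hY y.2⟩ ∈ sSup (img '' {X | IsFixed E F X}) := by
      have hle : Y ≤ ((sSup (img '' {X | IsFixed E F X})).comap ψ).map (normalizerIn S Q).subtype := by
        refine sSup_le fun X hX x hx => ?_
        have hxN : x ∈ normalizerIn S Q := hCN (IsFixed.le_fixSub hX |>.trans hY) hx
        have himg : ψ ⟨x, hxN⟩ ∈ img X := ⟨⟨x, hxN⟩, hx, rfl⟩
        exact ⟨⟨x, hxN⟩, (le_sSup (s := img '' {X | IsFixed E F X}) ⟨X, hX, rfl⟩) himg, rfl⟩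
      intro y
      obtain ⟨z, hz, hzy⟩ := hle y.2
      rw [show (⟨y, hCN hY y.2⟩ : normalizerIn S Q) = z from Subtype.ext hzy.symm]
      exact hz
    have hr := restrict_mem hψ hQY
    set r := ψ.comp (Subgroup.inclusion hQY) with hrdef
    obtain ⟨ρ, hρ, hρinv⟩ := F.inv_mem hr
    have hm1 : ∀ z, r z ∈ Q' ⊔ sSup (img '' {X | IsFixed E F X}) :=
      forall_mem_of_sup (fun q => le_sup_left (b := sSup (img '' {X | IsFixed E F X})) ((hag q).symm ▸ (e q).2))
        (fun y => le_sup_right (a := Q') (hYimg y))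
    have h1 := F.comp_mem hr hη hm1
    set τ : MulAut Q := (γ : MulAut Q) * conjAut Q u huN * (γ : MulAut Q)⁻¹ with hτ
    have hq' : ∀ q : Q, η ⟨r (Subgroup.inclusion le_sup_left q), hm1 _⟩ =
        r (Subgroup.inclusion le_sup_left (τ q)) := fun q => by
      refine ((congrArg η (Subtype.ext (hag q))).trans (hηQ (e q))).trans (Eq.trans ?_ (hag (τ q)).symm)
      show ((γ' (conjAut Q' t' ht'N (γ'⁻¹ (e q))) : Q') : Ω) = _
      rw [hγ', ← map_inv (MulAut.congr e), congr_apply, congr_apply, MulEquiv.symm_apply_apply]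
      rw [show e.symm (conjAut Q' t' ht'N (e ((γ : MulAut Q)⁻¹ q))) =
        conjAut Q u huN ((γ : MulAut Q)⁻¹ q) from e.injective (by
          have h5 := congr_conjAut_of_extends hQN hag (g := u) ⟨hTS hu, huN⟩ huN (e ((γ : MulAut Q)⁻¹ q))
          rw [congr_apply, MulEquiv.symm_apply_apply] at h5
          rw [MulEquiv.apply_symm_apply]
          exact Subtype.ext h5.symm)]
      rfl
    have hy' : ∀ y : Y, η ⟨r (Subgroup.inclusion le_sup_right y), hm1 _⟩ =
        r (Subgroup.inclusion le_sup_right y) := fun y =>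
      (congrArg η (Subtype.ext rfl)).trans (hηX ⟨_, hYimg y⟩)
    have hm2 : ∀ z, η.comp (r.codRestrict _ hm1) z ∈ r.range := forall_mem_of_sup
      (fun q => ⟨_, (hq' q).symm⟩) (fun y => ⟨_, (hy' y).symm⟩)
    refine ⟨_, F.comp_mem h1 hρ hm2, fun q => ?_, fun y => ?_⟩
    · exact (congrArg ρ (Subtype.ext (hq' q))).trans (hρinv (Subgroup.inclusion le_sup_left (τ q)))
    · exact (congrArg ρ (Subtype.ext (hy' y))).trans (hρinv (Subgroup.inclusion le_sup_right y))
  have hMD : M ≤ (D.autGroup Q).subgroupOf (E.autGroup Q) := by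
    refine (Subgroup.closure_le _).2 fun x hx => ?_
    obtain ⟨a, ha, hax⟩ := Group.mem_conjugatesOfSet_iff.1 hx
    obtain ⟨γ, rfl⟩ := isConj_iff.1 hax
    have ha' : (a : E.autGroup Q) ∈ (PA : Subgroup (E.autGroup Q)) := ha
    rw [hPA] at ha'
    obtain ⟨u, huN, hu, heq⟩ := exists_eq_conjAut (Subgroup.mem_subgroupOf.1 ha')
    show (γ : MulAut Q) * (a : MulAut Q) * (γ : MulAut Q)⁻¹ ∈ D.autGroup Q
    rw [heq]
    exact hconj γ u hu huN
  intro α hα
  have htop := Sylow.normalizer_sup_eq_top' PA hPM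
  have hle : (⊤ : Subgroup (E.autGroup Q)) ≤ (D.autGroup Q).subgroupOf (E.autGroup Q) := by
    rw [← htop]
    exact sup_le hnorm hMD
  exact hle (Subgroup.mem_top ⟨α, hα⟩)

end CfsgLib.Fusion.CenSub
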