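import Cfsg.Agent.Lib.Fusion.Centralizer.Fix

/-!
# The focal subgroup of the centralizer of a normal subsystem is fixed by it
-/

set_option autoImplicit false
set_option linter.unusedSectionVars false

namespace CfsgLib.Fusion.CenSub

open Cfsg Cfsg.FusionSystem CfsgLib.Fusion

variable {Ω : Type*} [Group Ω] {S T P Q X : Subgroup Ω} {F : Cfsg.FusionSystem S}
  {E : Cfsg.FusionSystem T} {p : ℕ}

/-- The subgroup generated by the quotients along the maps fixing `Q`. -/
def centFocal (F : Cfsg.FusionSystem S) (Q : Subgroup Ω) : Subgroup Ω :=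
  Subgroup.closure {y | ∃ (P : Subgroup Ω) (φ : P →* Ω) (x : P),
    φ ∈ F.centralizerHom Q P ∧ y = (x : Ω)⁻¹ * φ x}

theorem centFocal_le : centFocal F Q ≤ centralizerIn S Q := by
  refine (Subgroup.closure_le _).2 ?_
  rintro _ ⟨P, φ, x, hφ, rfl⟩
  exact (centralizerIn S Q).mul_mem ((centralizerIn S Q).inv_mem (hφ.2.1 x.2)) (hφ.2.2.1 x)

/-- An endomorphism with invariant displacement in `Q` fixes the focal subgroup of `C(Q)`. -/
theorem centFocal_le_fix (f : centralizerIn S Q →* Ω)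
    (hf : ∀ x : centralizerIn S Q, (x : Ω)⁻¹ * f x ∈ Q)
    (hst : ∀ (X : Subgroup Ω) (φ : X →* Ω) (hφ : φ ∈ F.centralizerHom Q X) (x : X),
      (φ x)⁻¹ * f ⟨φ x, hφ.2.2.1 x⟩ = (x : Ω)⁻¹ * f ⟨x, hφ.2.1 x.2⟩) :
    centFocal F Q ≤ (f.eqLocus (centralizerIn S Q).subtype).map (centralizerIn S Q).subtype := by
  refine (Subgroup.closure_le _).2 ?_
  rintro _ ⟨P, φ, x, hφ, rfl⟩
  set a : centralizerIn S Q := ⟨x, hφ.2.1 x.2⟩ with ha
  set b : centralizerIn S Q := ⟨φ x, hφ.2.2.1 x⟩ with hb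
  refine ⟨a⁻¹ * b, ?_, rfl⟩
  show f (a⁻¹ * b) = ((a⁻¹ * b : centralizerIn S Q) : Ω)
  set z := (a : Ω)⁻¹ * f a with hz
  have hzb : (b : Ω)⁻¹ * f b = z := hst P φ hφ x
  have hzc : ∀ c : centralizerIn S Q, z * (c : Ω) = (c : Ω) * z := fun c =>
    Subgroup.mem_centralizer_iff.1 c.2.2 z (hf a)
  have ea : f a = (a : Ω) * z := by rw [hz, mul_inv_cancel_left]
  have eb : f b = (b : Ω) * z := by rw [← hzb, mul_inv_cancel_left]
  rw [map_mul, map_inv, ea, eb]
  show ((a : Ω) * z)⁻¹ * ((b : Ω) * z) = ((a : Ω))⁻¹ * b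
  rw [mul_inv_rev, mul_assoc, ← mul_assoc _ _ z]
  have h1 := hzc (a⁻¹ * b)
  change z * ((a : Ω)⁻¹ * b) = ((a : Ω)⁻¹ * b) * z at h1
  rw [← h1, inv_mul_cancel_left]

/-- A map defined on a join with `Q` carries the focal subgroup of `C(Q)` into that of the image. -/
theorem map_centFocal {Q' U : Subgroup Ω} {ψ : U →* Ω} (hψ : ψ ∈ F.Hom U) (hQU : Q ≤ U)
    (hCU : centralizerIn S Q ≤ U) (hQ' : Q' = (ψ.comp (Subgroup.inclusion hQU)).range) :
    ∀ y : U, (y : Ω) ∈ centFocal F Q → ψ y ∈ centFocal F Q' := by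
  suffices hle : centFocal F Q ≤ ((centFocal F Q').comap ψ).map U.subtype by
    intro y hy
    obtain ⟨z, hz, hzy⟩ := hle hy
    rwa [← show z = y from Subtype.ext hzy]
  refine (Subgroup.closure_le _).2 ?_
  rintro _ ⟨P, φ, x, ⟨-, hPC, hφC, χ, hχ, hχP, hχQ⟩, rfl⟩
  have hPU : P ≤ U := hPC.trans hCU
  refine ⟨(⟨x, hPU x.2⟩ : U)⁻¹ * ⟨φ x, hCU (hφC x)⟩, ?_, rfl⟩
  show ψ _ ∈ centFocal F Q'
  rw [map_mul, map_inv]
  have hPQ : P ⊔ Q ≤ U := sup_le hPU hQU
  set r := ψ.comp (Subgroup.inclusion hPQ) with hrdef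
  have hr : r ∈ F.Hom (P ⊔ Q) := restrict_mem hψ hPQ
  obtain ⟨ρ, hρ, hρinv⟩ := F.inv_mem hr
  have hρm : ∀ z, ρ z ∈ P ⊔ Q := by rintro ⟨_, z, rfl⟩; rw [hρinv]; exact z.2
  have hχm : ∀ z, χ z ∈ U := forall_mem_of_sup
    (fun a => by rw [hχP]; exact hCU (hφC a)) (fun q => by rw [hχQ]; exact hQU q.2)
  have h2 := F.comp_mem (F.comp_mem hρ hχ hρm) hψ (fun z => hχm _)
  set η := ψ.comp ((χ.comp (ρ.codRestrict _ hρm)).codRestrict U fun z => hχm _) with hη
  set P' := (r.comp (Subgroup.inclusion le_sup_left)).range with hP'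
  have hP'r : P' ≤ r.range := by rintro _ ⟨a, rfl⟩; exact ⟨_, rfl⟩
  have hQ'r : Q' ≤ r.range := by
    rw [hQ']; rintro _ ⟨a, rfl⟩; exact ⟨Subgroup.inclusion le_sup_right a, rfl⟩
  have hηP : ∀ a : P, η ⟨r (Subgroup.inclusion le_sup_left a), _, rfl⟩ = ψ ⟨φ a, hCU (hφC a)⟩ := by
    intro a
    show ψ ⟨χ ⟨ρ _, _⟩, _⟩ = _
    refine congrArg ψ (Subtype.ext ?_)
    exact (congrArg χ (Subtype.ext (hρinv (Subgroup.inclusion le_sup_left a)))).trans (hχP a)
  have hηQ : ∀ a : Q, η ⟨r (Subgroup.inclusion le_sup_right a), _, rfl⟩ = ψ ⟨a, hQU a.2⟩ := by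
    intro a
    show ψ ⟨χ ⟨ρ _, _⟩, _⟩ = _
    refine congrArg ψ (Subtype.ext ?_)
    exact (congrArg χ (Subtype.ext (hρinv (Subgroup.inclusion le_sup_right a)))).trans (hχQ a)
  have hcent : ∀ c : U, (c : Ω) ∈ centralizerIn S Q → ψ c ∈ centralizerIn S Q' := by
    intro c hc
    refine ⟨map_mem hψ c, Subgroup.mem_centralizer_iff.2 ?_⟩
    rw [hQ']
    rintro _ ⟨a, rfl⟩
    show ψ _ * ψ c = ψ c * ψ _
    rw [← map_mul, ← map_mul]
    exact congrArg ψ (Subtype.ext (Subgroup.mem_centralizer_iff.1 hc.2 a a.2))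
  refine Subgroup.subset_closure ⟨P', η.comp (Subgroup.inclusion hP'r), ⟨_, x, rfl⟩, ?_, ?_⟩
  · refine ⟨restrict_mem h2 hP'r, ?_, ?_, _, restrict_mem h2 (sup_le hP'r hQ'r), fun a => rfl, ?_⟩
    · rintro _ ⟨a, rfl⟩; exact hcent _ (hPC a.2)
    · rintro ⟨_, a, rfl⟩
      show η _ ∈ _
      exact (hηP a).symm ▸ hcent _ (hφC a)
    · rintro ⟨q, hq⟩
      obtain ⟨a, rfl⟩ : q ∈ (ψ.comp (Subgroup.inclusion hQU)).range := hQ' ▸ hq
      exact hηQ a
  · exact congrArg ((ψ ⟨x, hPU x.2⟩)⁻¹ * ·) (hηP x).symm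

/-- A map fixing `T` fixes its subgroups. -/
theorem centFocal_mono (hQT : Q ≤ T) : centFocal F T ≤ centFocal F Q := by
  refine Subgroup.closure_mono ?_
  rintro _ ⟨P, φ, x, ⟨hφ, hPC, hφC, χ, hχ, hχP, hχT⟩, rfl⟩
  have hC : centralizerIn S T ≤ centralizerIn S Q := fun c hc =>
    ⟨hc.1, Subgroup.centralizer_le hQT hc.2⟩
  exact ⟨P, φ, x, ⟨hφ, hPC.trans hC, fun a => hC (hφC a), _,
    restrict_mem hχ (sup_le_sup_left hQT P), fun a => hχP a, fun q => hχT ⟨q, hQT q.2⟩⟩, rfl⟩

/-- The conjugate of an automorphism induced by `T` fixes the focal subgroup of the centralizer. -/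
theorem exists_ext_conj_foc [Finite S] [Fact p.Prime] (hS : IsPGroup p S) (hF : F.IsSaturated p)
    (hT : F.StronglyClosed T) (hQ : F.IsReceptive Q) (hC : centralizerIn T Q ≤ Q) {t : Ω} (ht : t ∈ T)
    (htN : t ∈ Subgroup.normalizer (Q : Set Ω)) {γ : MulAut Q} (hγ : γ ∈ F.autGroup Q) :
    ∃ ψ ∈ F.Hom (Q ⊔ centFocal F Q),
      (∀ q : Q, ψ (Subgroup.inclusion le_sup_left q) =
        ((γ * conjAut Q t htN * γ⁻¹) q : Q)) ∧
      ∀ x : centFocal F Q, ψ (Subgroup.inclusion le_sup_right x) = x := by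
  set U := Q ⊔ centralizerIn S Q with hU
  have hQS : Q ≤ S := hQ.1
  have hUS : U ≤ S := sup_le hQS (centralizerIn_le S Q)
  have : Finite U := finite_of_le hUS
  have hγh := (mem_autGroup_iff_hom hQS).1 hγ
  have hγr : (Q.subtype.comp γ.toMonoidHom).range = Q := range_subtype_comp γ
  obtain ⟨G₀, hG₀, hG₀Q, hG₀C⟩ := exists_ext_centralizer hQ hγh hγr
  obtain ⟨G, hGF, hGx⟩ := exists_aut hG₀ (range_eq_of_le (hom_inj hG₀) (forall_mem_of_sup
    (fun q => le_sup_left (b := centralizerIn S Q) ((hG₀Q q).symm ▸ (γ q).2))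
    (fun c => le_sup_right (a := Q) (hG₀C c))))
  have htS : t ∈ S := hT.1 ht
  have htC : t ∈ Subgroup.normalizer ((centralizerIn S Q : Subgroup Ω) : Set Ω) := by
    have key : ∀ u, u ∈ S → u ∈ Subgroup.normalizer (Q : Set Ω) → ∀ c ∈ centralizerIn S Q,
        u * c * u⁻¹ ∈ centralizerIn S Q := fun u huS hu c hc =>
      ⟨S.mul_mem (S.mul_mem huS hc.1) (S.inv_mem huS), Subgroup.mem_centralizer_iff.2 fun q hq => by
        have h1 : u⁻¹ * q * u ∈ Q := by simpa using conj_mem_of_mem_normalizer (inv_mem hu) hq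
        have h2 := Subgroup.mem_centralizer_iff.1 hc.2 _ h1
        calc q * (u * c * u⁻¹) = u * (u⁻¹ * q * u * c) * u⁻¹ := by group
          _ = u * (c * (u⁻¹ * q * u)) * u⁻¹ := by rw [h2]
          _ = _ := by group⟩
    exact Subgroup.mem_normalizer_iff.2 fun c => ⟨key t htS htN c, fun h => by
      simpa [mul_assoc] using key t⁻¹ (S.inv_mem htS) (inv_mem htN) _ h⟩
  have htU : t ∈ Subgroup.normalizer (U : Set Ω) := normalizer_le_sup htN htC
  set g := G * conjAut U t htU * G⁻¹ with hg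
  have hgF : g ∈ F.autGroup U := mul_mem (mul_mem hGF
    (autInducedBy_le_autGroup F hUS (conjAut_mem_autInducedBy htS htU))) (inv_mem hGF)
  have hGinv : ∀ q : Q, G⁻¹ (Subgroup.inclusion le_sup_left q) =
      Subgroup.inclusion le_sup_left (γ⁻¹ q) := fun q => G.injective (by
    rw [MulAut.apply_inv_self]
    exact Subtype.ext ((hGx _).trans ((hG₀Q _).trans (by simp))).symm)
  have hle : centFocal F Q ≤ centralizerIn S Q := centFocal_le
  have hgfix : centFocal F Q ≤ ((U.subtype.comp g.toMonoidHom).eqLocus U.subtype).map U.subtype := by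
    intro x hx
    refine ⟨⟨x, le_sup_right (a := Q) (hle hx)⟩, ?_, rfl⟩
    set xU : U := ⟨x, le_sup_right (a := Q) (hle hx)⟩ with hxU
    have hGi := (mem_autGroup_iff_hom hUS).1 (inv_mem hGF)
    have hQr : Q = ((U.subtype.comp (G⁻¹ : MulAut U).toMonoidHom).comp
        (Subgroup.inclusion le_sup_left)).range := by
      ext w
      constructor
      · intro hw
        exact ⟨γ ⟨w, hw⟩, (congrArg Subtype.val (hGinv _)).trans (by
          rw [MulAut.inv_apply_self]; rfl)⟩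
      · rintro ⟨q, rfl⟩
        show ((G⁻¹ (Subgroup.inclusion le_sup_left q) : U) : Ω) ∈ Q
        rw [hGinv]
        exact (γ⁻¹ q).2
    have hmem : ((G⁻¹ xU : U) : Ω) ∈ centFocal F Q :=
      map_centFocal hGi le_sup_left le_sup_right hQr xU hx
    have hdisp : ∀ c : centralizerIn S Q,
        (c : Ω)⁻¹ * ((MulAut.conj t).toMonoidHom.comp (centralizerIn S Q).subtype) c ∈ Q := by
      intro c
      have hTn := stronglyClosed_le_normalizer hT
      show (c : Ω)⁻¹ * (t * c * t⁻¹) ∈ Q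
      refine hC ⟨?_, ((centralizerIn S Q).mul_mem ((centralizerIn S Q).inv_mem c.2)
        (conj_mem_of_mem_normalizer htC c.2)).2⟩
      have h2 : (c : Ω)⁻¹ * t * (c : Ω)⁻¹⁻¹ ∈ T :=
        conj_mem_of_mem_normalizer (hTn (S.inv_mem c.2.1)) ht
      have h3 := T.mul_mem h2 (T.inv_mem ht)
      simpa [mul_assoc] using h3
    obtain ⟨c, hc, hcx⟩ := centFocal_le_fix _ hdisp (fun X φ hφ x => stable_strongly_closed hS hF hT
      (isFullyCentralized_of_isReceptive hQ) hC ht htN hφ x) hmem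
    change t * (c : Ω) * t⁻¹ = c at hc
    rw [show (c : Ω) = ((G⁻¹ xU : U) : Ω) from hcx] at hc
    show ((G (conjAut U t htU (G⁻¹ xU)) : U) : Ω) = x
    rw [show conjAut U t htU (G⁻¹ xU) = G⁻¹ xU from Subtype.ext hc, MulAut.apply_inv_self]
  have hQY : Q ⊔ centFocal F Q ≤ U := sup_le le_sup_left (hle.trans le_sup_right)
  refine ⟨_, restrict_mem ((mem_autGroup_iff_hom hUS).1 hgF) hQY, fun q => ?_, fun x => ?_⟩
  · show ((G (conjAut U t htU (G⁻¹ (Subgroup.inclusion le_sup_left q))) : U) : Ω) = _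
    rw [hGinv]
    exact (hGx _).trans ((congrArg G₀ (Subtype.ext rfl)).trans (hG₀Q (conjAut Q t htN (γ⁻¹ q))))
  · obtain ⟨u, hu, hux⟩ := hgfix x.2
    show ((g (Subgroup.inclusion hQY (Subgroup.inclusion le_sup_right x)) : U) : Ω) = x
    rw [show Subgroup.inclusion hQY (Subgroup.inclusion le_sup_right x) = u from Subtype.ext hux.symm]
    exact hu.trans hux


/-- The focal subgroup of the centralizer of `T` is fixed by `E`. -/
theorem isFixed_centFocal [Finite S] [hp : Fact p.Prime] (hS : IsPGroup p S) (hF : F.IsSaturated p)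
    (hE : E.IsNormalIn F p) : IsFixed E F (centFocal F T) := by
  classical
  obtain ⟨⟨hEs, -, hEinv⟩, hext⟩ := hE
  have hT := hEinv.2.1
  have hEF := hEinv.1
  have hTS := hT.1
  have hTn := stronglyClosed_le_normalizer hT
  have hTp := hS.to_le hTS
  have : Finite T := finite_of_le hTS
  set Y := centFocal F T with hYdef
  have hY : Y ≤ centralizerIn S T := centFocal_le
  have hfc : F.IsFullyNormalized T := ⟨hTS, fun R hR => by
    have : Finite (normalizerIn S T) := finite_of_le (normalizerIn_le S T)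
    exact Nat.card_le_card_of_injective (fun x : normalizerIn S R =>
      (⟨x, x.2.1, hTn x.2.1⟩ : normalizerIn S T)) fun a b h => Subtype.ext (congrArg Subtype.val h :)⟩
  refine (isFixed_iff hTS hEF hY).2 fun P φ hφ => ?_
  refine ((Descent.hom_le_of_aut_centric (E := fixSystem E F Y hY hTS) hTp hEs ?_ P) hφ).2
  intro Q hQn hQc hbig
  have hQT : Q ≤ T := hQn.1
  have : Finite Q := finite_of_le hQT
  have : Finite (MulAut Q) := finite_mulAut
  set D := fixSystem E F Y hY hTS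
  have hmemD : ∀ α ∈ E.autGroup Q, (∃ ψ ∈ F.Hom (Q ⊔ Y),
      (∀ q : Q, ψ (Subgroup.inclusion le_sup_left q) = (α q : Ω)) ∧
      ∀ y : Y, ψ (Subgroup.inclusion le_sup_right y) = y) → α ∈ D.autGroup Q := fun α hα h =>
    (mem_autGroup_iff_hom hQT).2 ⟨(mem_autGroup_iff_hom hQT).1 hα,
      hEF Q ((mem_autGroup_iff_hom hQT).1 hα), le_centralizerIn_of_fix hTS hY hQT,
      fun x => le_centralizerIn_of_fix hTS hY hQT (α x).2, h⟩
  obtain ⟨-, PA, hPA⟩ := isFullyAutomized_of_isFullyNormalized hTp hEs hQn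
  rcases hQT.eq_or_lt with rfl | hlt
  · -- the whole of `T`
    intro α hα
    set U := Q ⊔ centralizerIn S Q with hU
    have hUS : U ≤ S := sup_le hTS (centralizerIn_le S Q)
    have : Finite U := finite_of_le hUS
    have : Finite (MulAut U) := finite_mulAut
    have hcop : ∀ a : E.autGroup Q, Nat.Coprime (orderOf a) p → (a : MulAut Q) ∈ D.autGroup Q := by
      intro a ha
      obtain ⟨β, hβ, hβT, hβC⟩ := hext a a.2
      have hβ' : ∀ x : Q, β (Subgroup.inclusion le_sup_left x) =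
          Subgroup.inclusion le_sup_left ((a : MulAut Q) x) := fun x => Subtype.ext (hβT x)
      have hCmap : ∀ c : U, (c : Ω) ∈ centralizerIn S Q → ((β c : U) : Ω) ∈ centralizerIn S Q := by
        intro c hc
        refine ⟨hUS (β c).2, Subgroup.mem_centralizer_iff.2 fun y hy => ?_⟩
        obtain ⟨x, hx⟩ := (a : MulAut Q).surjective ⟨y, hy⟩
        rw [show y = ((β (Subgroup.inclusion le_sup_left x) : U) : Ω) by rw [hβT, hx]]
        show ((β (Subgroup.inclusion le_sup_left x) * β c : U) : Ω) =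
          ((β c * β (Subgroup.inclusion le_sup_left x) : U) : Ω)
        rw [← map_mul, ← map_mul]
        exact congrArg (fun z : U => ((β z : U) : Ω)) (Subtype.ext
          (Subgroup.mem_centralizer_iff.1 hc.2 x x.2))
      have hpow : ∀ n : ℕ, (∀ x : Q, (β ^ n) (Subgroup.inclusion le_sup_left x) =
            Subgroup.inclusion le_sup_left (((a : MulAut Q) ^ n) x)) ∧
          ∀ c : U, (c : Ω) ∈ centralizerIn S Q → (((β ^ n) c : U) : Ω) ∈ centralizerIn S Q ∧
            (c : Ω)⁻¹ * (((β ^ n) c : U) : Ω) ∈ Q ⊓ Subgroup.centralizer (Q : Set Ω) := by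
        intro n
        induction n with
        | zero => exact ⟨fun x => rfl, fun c hc => ⟨hc, by simp [one_mem]⟩⟩
        | succ n ih =>
          refine ⟨fun x => ?_, fun c hc => ?_⟩
          · rw [pow_succ', pow_succ', MulAut.mul_apply, MulAut.mul_apply, ih.1, hβ']
          · obtain ⟨h1, h2⟩ := ih.2 c hc
            rw [pow_succ', MulAut.mul_apply]
            refine ⟨hCmap _ h1, ?_⟩
            have := (Q ⊓ Subgroup.centralizer (Q : Set Ω)).mul_mem h2 (hβC _ h1)
            rwa [mul_assoc, mul_inv_cancel_left] at this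
      obtain ⟨k, hk⟩ := CfsgLib.Transfer.exists_pow_coprime_orderOf (p := p) β
      obtain ⟨j, hj⟩ := exists_pow_eq_self_of_coprime (ha.symm.pow_left k)
      set g := β ^ (p ^ k * j) with hg
      have hgcop : Nat.Coprime (orderOf g) p := by
        rw [hg, pow_mul]; exact hk.coprime_dvd_left (orderOf_pow_dvd j)
      have hgF : g ∈ F.autGroup U := pow_mem hβ _
      have hgT : ∀ x : Q, g (Subgroup.inclusion le_sup_left x) =
          Subgroup.inclusion le_sup_left ((a : MulAut Q) x) := fun x => by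
        rw [hg, (hpow _).1, pow_mul,
          show ((a : MulAut Q) ^ p ^ k) ^ j = a from congrArg Subtype.val hj]
      have hgC : ∀ c : centralizerIn S Q,
          (c : Ω)⁻¹ * ((g (Subgroup.inclusion le_sup_right c) : U) : Ω) ∈ Q ⊓ centralizerIn S Q :=
        fun c => by
          obtain ⟨h1, h2⟩ := (hpow (p ^ k * j)).2 (Subgroup.inclusion le_sup_right c) c.2
          exact ⟨h2.1, (centralizerIn S Q).mul_mem ((centralizerIn S Q).inv_mem c.2) h1⟩
      have hgQ : ∀ x : Q, ((g (Subgroup.inclusion le_sup_left x) : U) : Ω) ∈ Q := fun x => by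
        rw [hgT]; exact ((a : MulAut Q) x).2
      have hgh : U.subtype.comp g.toMonoidHom ∈ F.Hom U := (mem_autGroup_iff_hom hUS).1 hgF
      have hfix : Y ≤ ((U.subtype.comp g.toMonoidHom).eqLocus U.subtype).map U.subtype := by
        intro x hx
        have h1 := centFocal_le_fix (U.subtype.comp (g.toMonoidHom.comp (Subgroup.inclusion le_sup_right)))
          (fun c => (hgC c).1) (fun X φ hφ x => stable_coprime hS hF
            (isFullyCentralized_of_isFullyNormalized hS hF hfc) hgF hgQ hgC hgcop hφ x) hx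
        obtain ⟨c, hc, rfl⟩ := h1
        exact ⟨Subgroup.inclusion le_sup_right c, hc, rfl⟩
      refine hmemD a a.2 ⟨_, restrict_mem hgh (sup_le le_sup_left (hY.trans le_sup_right)),
        fun q => congrArg Subtype.val (hgT q), fun y => ?_⟩
      obtain ⟨u, hu, huy⟩ := hfix y.2
      exact (congrArg (fun z : U => ((g z : U) : Ω)) (Subtype.ext huy.symm)).trans (hu.trans huy)
    have htop : (⊤ : Subgroup (E.autGroup Q)) ≤ (D.autGroup Q).subgroupOf (E.autGroup Q) := by
      rw [← CfsgLib.Transfer.pResidual_sup_of_sylow PA]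
      refine sup_le ((Subgroup.closure_le _).2 fun a ha => hcop a ha) ?_
      rw [hPA]
      exact fun a ha => autInducedBy_le_autGroup D le_rfl ha
    exact htop (Subgroup.mem_top ⟨α, hα⟩)
  -- proper subgroups
  have hrec := isReceptive_of_isFullyNormalized hTp hEs hQn
  set M := Subgroup.normalClosure ((PA : Subgroup (E.autGroup Q)) : Set (E.autGroup Q))
  have hPM : (PA : Subgroup (E.autGroup Q)) ≤ M := Subgroup.subset_normalClosure
  have hnorm : Subgroup.normalizer (PA : Set (E.autGroup Q)) ≤ (D.autGroup Q).subgroupOf (E.autGroup Q) := by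
    intro n hn
    have hniso : IsFIso E ((n : MulAut Q) : Q ≃* Q) := (mem_autGroup_iff hQT).1 n.2
    obtain ⟨ψ, hψ, -, hag⟩ := hniso.exists_extension hrec (le_normalizerIn hQT) le_rfl fun u hu => by
      have hc : (⟨conjAut Q u hu.2, autInducedBy_le_autGroup E hQT
          (conjAut_mem_autInducedBy hu.1 _)⟩ : E.autGroup Q) ∈ (PA : Subgroup (E.autGroup Q)) := by
        rw [hPA]
        exact conjAut_mem_autInducedBy hu.1 _
      have h1 := (Subgroup.mem_normalizer_iff.1 hn _).1 hc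
      rw [hPA] at h1
      exact h1
    exact (mem_autGroup_iff hQT).2 (mem_of_restrict
      (hbig _ (Descent.card_lt_card_of_lt (normalizerIn_le T Q) (lt_normalizerIn hTp hlt)) hψ)
      (le_normalizerIn hQT) _ fun x => (hag x).symm)
  have hconj : ∀ (γ : E.autGroup Q) (u : Ω) (hu : u ∈ T) (huN : u ∈ Subgroup.normalizer (Q : Set Ω)),
      (γ : MulAut Q) * conjAut Q u huN * (γ : MulAut Q)⁻¹ ∈ D.autGroup Q := by
    intro γ u hu huN
    obtain ⟨Q', hQQ', hQ'n⟩ := exists_isFullyNormalized F (hQT.trans hTS)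
    obtain ⟨e, he, ψ, hψ, hψN, hag⟩ := exists_normalizer_map hS hF hQ'n hQQ'
    have hQ'r := isReceptive_of_isFullyNormalized hS hF hQ'n
    have hNS : normalizerIn S Q ≤ S := normalizerIn_le S Q
    have hQN : Q ≤ normalizerIn S Q := le_normalizerIn (hQT.trans hTS)
    have hCN : ∀ {X : Subgroup Ω}, X ≤ centralizerIn S T → X ≤ normalizerIn S Q := fun {X} hX x hx =>
      ⟨(hX hx).1, centralizer_le_normalizer Q (Subgroup.centralizer_le hQT (hX hx).2)⟩
    set t' := ψ ⟨u, hTS hu, huN⟩ with ht'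
    have ht'T : t' ∈ T :=
      hT.2 (T ⊓ normalizerIn S Q) inf_le_left _ (restrict_mem hψ inf_le_right) ⟨u, hu, hTS hu, huN⟩
    have ht'N : t' ∈ Subgroup.normalizer (Q' : Set Ω) := (hψN _).2
    have hC' : centralizerIn T Q' ≤ Q' := by
      have h := centralizerIn_le_of_conj hEinv hQc (φ := Q'.subtype.comp e.toMonoidHom) he
      rwa [range_subtype_comp] at h
    set γ' := MulAut.congr e (γ : MulAut Q) with hγ'
    have hγ'F : γ' ∈ F.autGroup Q' := he.congr_mem
      ((mem_autGroup_iff_hom (hQT.trans hTS)).2 (hEF Q ((mem_autGroup_iff_hom hQT).1 γ.2)))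
    have hψcomm : ∀ (a b : normalizerIn S Q), (a : Ω) * b = b * a → ψ a * ψ b = ψ b * ψ a :=
      fun a b h => by rw [← map_mul, ← map_mul]; exact congrArg ψ (Subtype.ext h)
    obtain ⟨η, hη, hηQ, hηX⟩ := exists_ext_conj_foc hS hF hT hQ'r hC' ht'T ht'N hγ'F
    refine hmemD _ (mul_mem (mul_mem γ.2 (autInducedBy_le_autGroup E hQT
      (conjAut_mem_autInducedBy hu huN))) (inv_mem γ.2)) ?_
    -- back to `Q`
    have hQY : Q ⊔ Y ≤ normalizerIn S Q := sup_le hQN (hCN hY)
    have hCQ : centralizerIn S Q ≤ normalizerIn S Q := fun c hc =>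
      ⟨hc.1, centralizer_le_normalizer Q hc.2⟩
    have hQ'eq : Q' = (ψ.comp (Subgroup.inclusion hQN)).range := by
      ext w
      constructor
      · intro hw
        obtain ⟨q, hq⟩ := e.surjective ⟨w, hw⟩
        exact ⟨q, (hag q).trans (congrArg Subtype.val hq)⟩
      · rintro ⟨q, rfl⟩
        exact (hag q).symm ▸ (e q).2
    have hYimg : ∀ y : Y, ψ ⟨y, hCN hY y.2⟩ ∈ centFocal F Q' := fun y =>
      map_centFocal hψ hQN hCQ hQ'eq _ (centFocal_mono hQT y.2)
    have hr := restrict_mem hψ hQY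
    set r := ψ.comp (Subgroup.inclusion hQY) with hrdef
    obtain ⟨ρ, hρ, hρinv⟩ := F.inv_mem hr
    have hm1 : ∀ z, r z ∈ Q' ⊔ centFocal F Q' :=
      forall_mem_of_sup (fun q => le_sup_left (b := centFocal F Q') ((hag q).symm ▸ (e q).2))
        (fun y => le_sup_right (a := Q') (hYimg y))
    have h1 := F.comp_mem hr hη hm1
    set τ : MulAut Q := (γ : MulAut Q) * conjAut Q u huN * (γ : MulAut Q)⁻¹ with hτ
    have hq' : ∀ q : Q, η ⟨r (Subgroup.inclusion le_sup_left q), hm1 _⟩ =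
        r (Subgroup.inclusion le_sup_left (τ q)) := fun q => by
      refine ((congrArg η (Subtype.ext (hag q))).trans (hηQ (e q))).trans (Eq.trans ?_ (hag (τ q)).symm)
      show ((γ' (conjAut Q' t' ht'N (γ'⁻¹ (e q))) : Q') : Ω) = _
      rw [hγ', ← map_inv (MulAut.congr e), congr_apply, congr_apply, MulEquiv.symm_apply_apply]
      rw [show e.symm (conjAut Q' t' ht'N (e ((γ : MulAut Q)⁻¹ q))) =
        conjAut Q u huN ((γ : MulAut Q)⁻¹ q) from e.injective (by
          have h5 := congr_conjAut_of_extends hQN hag (g := u) ⟨hTS hu, huN⟩ huN (e ((γ : MulAut Q)⁻¹ q))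
          rw [congr_apply, MulEquiv.symm_apply_apply] at h5
          rw [MulEquiv.apply_symm_apply]
          exact Subtype.ext h5.symm)]
      rfl
    have hy' : ∀ y : Y, η ⟨r (Subgroup.inclusion le_sup_right y), hm1 _⟩ =
        r (Subgroup.inclusion le_sup_right y) := fun y =>
      (congrArg η (Subtype.ext rfl)).trans (hηX ⟨_, hYimg y⟩)
    have hm2 : ∀ z, η.comp (r.codRestrict _ hm1) z ∈ r.range := forall_mem_of_sup
      (fun q => ⟨_, (hq' q).symm⟩) (fun y => ⟨_, (hy' y).symm⟩)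
    refine ⟨_, F.comp_mem h1 hρ hm2, fun q => ?_, fun y => ?_⟩
    · exact (congrArg ρ (Subtype.ext (hq' q))).trans (hρinv (Subgroup.inclusion le_sup_left (τ q)))
    · exact (congrArg ρ (Subtype.ext (hy' y))).trans (hρinv (Subgroup.inclusion le_sup_right y))
  have hMD : M ≤ (D.autGroup Q).subgroupOf (E.autGroup Q) := by
    refine (Subgroup.closure_le _).2 fun x hx => ?_
    obtain ⟨a, ha, hax⟩ := Group.mem_conjugatesOfSet_iff.1 hx
    obtain ⟨γ, rfl⟩ := isConj_iff.1 hax
    have ha' : (a : E.autGroup Q) ∈ (PA : Subgroup (E.autGroup Q)) := ha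
    rw [hPA] at ha'
    obtain ⟨u, huN, hu, heq⟩ := exists_eq_conjAut (Subgroup.mem_subgroupOf.1 ha')
    show (γ : MulAut Q) * (a : MulAut Q) * (γ : MulAut Q)⁻¹ ∈ D.autGroup Q
    rw [heq]
    exact hconj γ u hu huN
  intro α hα
  have htop := Sylow.normalizer_sup_eq_top' PA hPM
  have hle : (⊤ : Subgroup (E.autGroup Q)) ≤ (D.autGroup Q).subgroupOf (E.autGroup Q) := by
    rw [← htop]
    exact sup_le hnorm hMD
  exact hle (Subgroup.mem_top ⟨α, hα⟩)


end CfsgLib.Fusion.CenSub
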