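import Cfsg.Agent.Lib.Fusion.LocalSaturation
import Cfsg.Agent.Lib.Fusion.Descent
import Cfsg.Agent.Lib.Fusion.Normal
import Cfsg.Agent.Lib.FusionQuot.SCSeries

/-!
# Displacements stable under a centralizer system
-/

set_option autoImplicit false
set_option linter.unusedSectionVars false

namespace CfsgLib.Fusion.CenSub

open Cfsg Cfsg.FusionSystem CfsgLib.Fusion

variable {Ω : Type*} [Group Ω] {S T P Q : Subgroup Ω} {F : Cfsg.FusionSystem S} {p : ℕ}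

/-- Two maps on a join agree if they agree on both parts. -/
theorem eq_of_sup {f g : ↥(P ⊔ Q) →* Ω}
    (hP : ∀ x : P, f (Subgroup.inclusion le_sup_left x) = g (Subgroup.inclusion le_sup_left x))
    (hQ : ∀ x : Q, f (Subgroup.inclusion le_sup_right x) = g (Subgroup.inclusion le_sup_right x))
    (x : ↥(P ⊔ Q)) : f x = g x := by
  suffices P ⊔ Q ≤ (f.eqLocus g).map (P ⊔ Q).subtype by
    obtain ⟨y, hy, hyx⟩ := this x.2
    rwa [← show y = x from Subtype.ext hyx]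
  exact sup_le (fun y hy => ⟨_, hP ⟨y, hy⟩, rfl⟩) (fun y hy => ⟨_, hQ ⟨y, hy⟩, rfl⟩)

theorem normalizer_le_sup {g : Ω} (hP : g ∈ Subgroup.normalizer (P : Set Ω))
    (hQ : g ∈ Subgroup.normalizer (Q : Set Ω)) : g ∈ Subgroup.normalizer ((P ⊔ Q : Subgroup Ω) : Set Ω) :=
  normalizer_sup_of_mem hP hQ

/-- A map onto a receptive subgroup extends over the centralizer. -/
theorem exists_ext_centralizer (hQ : F.IsReceptive Q) {φ : P →* Ω} (hφ : φ ∈ F.Hom P) (hr : φ.range = Q) :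
    ∃ ψ ∈ F.Hom (P ⊔ centralizerIn S P), (∀ x : P, ψ (Subgroup.inclusion le_sup_left x) = φ x) ∧
      ∀ c : centralizerIn S P, ψ (Subgroup.inclusion le_sup_right c) ∈ centralizerIn S Q := by
  obtain ⟨χ, hχ, hag⟩ := hQ.2 P φ hφ hr
  have hle : P ⊔ centralizerIn S P ≤ extender S P φ :=
    sup_le (le_extender (dom_le hφ) (map_mem hφ)) (centralizerIn_le_extender φ)
  refine ⟨_, restrict_mem hχ hle, fun x => hag x x.2 _, fun c => ⟨map_mem hχ _, ?_⟩⟩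
  refine Subgroup.mem_centralizer_iff.2 fun y hy => ?_
  obtain ⟨x, rfl⟩ : y ∈ φ.range := hr.symm ▸ hy
  rw [← hag x x.2 (hle (le_sup_left (b := centralizerIn S P) x.2))]
  show χ _ * χ _ = χ _ * χ _
  rw [← map_mul, ← map_mul]
  exact congrArg χ (Subtype.ext (Subgroup.mem_centralizer_iff.1 c.2.2 x x.2))

/-- The displacement of an endomorphism is invariant under conjugation. -/
theorem disp_conj (γ : centralizerIn S Q →* Ω)
    (hγ : ∀ x : centralizerIn S Q, (x : Ω)⁻¹ * γ x ∈ Q ⊓ centralizerIn S Q) (c x : centralizerIn S Q) :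
    ((c * x * c⁻¹ : centralizerIn S Q) : Ω)⁻¹ * γ (c * x * c⁻¹) = (x : Ω)⁻¹ * γ x := by
  set z := (c : Ω)⁻¹ * γ c with hz
  set w := (x : Ω)⁻¹ * γ x with hw
  have hzC : ∀ y : centralizerIn S Q, Commute z (y : Ω) := fun y =>
    Subgroup.mem_centralizer_iff.1 y.2.2 z (hγ c).1
  have hwC : ∀ y : centralizerIn S Q, Commute w (y : Ω) := fun y =>
    Subgroup.mem_centralizer_iff.1 y.2.2 w (hγ x).1
  have hzw : Commute z w := hzC ⟨w, (hγ x).2⟩
  have ec : γ c = (c : Ω) * z := by rw [hz, mul_inv_cancel_left]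
  have ex : γ x = (x : Ω) * w := by rw [hw, mul_inv_cancel_left]
  rw [map_mul, map_mul, map_inv, ec, ex]
  show ((c : Ω) * x * (c : Ω)⁻¹)⁻¹ * ((c : Ω) * z * ((x : Ω) * w) * ((c : Ω) * z)⁻¹) = w
  rw [mul_assoc (c : Ω) z, ← mul_assoc z, (hzC x).eq, mul_assoc (x : Ω), hzw.eq]
  calc ((c : Ω) * x * (c : Ω)⁻¹)⁻¹ * ((c : Ω) * ((x : Ω) * (w * z)) * ((c : Ω) * z)⁻¹)
      = (c : Ω) * w * (c : Ω)⁻¹ := by group
    _ = w := by rw [← (hwC c).eq, mul_inv_cancel_right]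

theorem center_le_of_centric (hQS : Q ≤ S) {R : Subgroup Ω}
    (hR : (centralizerSystem F Q hQS).IsCentric R) : Q ⊓ centralizerIn S Q ≤ R := fun z hz =>
  hR.2 R (isConj_refl _ hR.1) ⟨hz.2, Subgroup.mem_centralizer_iff.2 fun r hr =>
    (Subgroup.mem_centralizer_iff.1 (hR.1 hr).2 z hz.1).symm⟩

/-- Reduction of stability to automorphisms of centric subgroups. -/
theorem stable_of_aut [Finite S] [Fact p.Prime] (hS : IsPGroup p S) (hF : F.IsSaturated p)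
    (hQ : F.IsFullyCentralized Q) (γ : centralizerIn S Q →* Ω)
    (hγ : ∀ x : centralizerIn S Q, (x : Ω)⁻¹ * γ x ∈ Q ⊓ centralizerIn S Q)
    (haut : ∀ R (hR : R ≤ centralizerIn S Q),
      (centralizerSystem F Q hQ.1).IsFullyNormalized R → (centralizerSystem F Q hQ.1).IsCentric R →
      ∀ φ ∈ (centralizerSystem F Q hQ.1).autGroup R, ∀ x : R,
        ((φ x : R) : Ω)⁻¹ * γ (Subgroup.inclusion hR (φ x)) = (x : Ω)⁻¹ * γ (Subgroup.inclusion hR x))
    {X : Subgroup Ω} {φ : X →* Ω} (hφ : φ ∈ F.centralizerHom Q X) (x : X) :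
    (φ x)⁻¹ * γ ⟨φ x, hφ.2.2.1 x⟩ = (x : Ω)⁻¹ * γ ⟨x, hφ.2.1 x.2⟩ := by
  set N := centralizerSystem F Q hQ.1
  let D : Cfsg.FusionSystem (centralizerIn S Q) :=
    { Hom := fun Y => {ψ | ∃ h : ψ ∈ N.Hom Y, ∀ y : Y,
        (ψ y)⁻¹ * γ ⟨ψ y, (N.le_of_mem h).2 y⟩ = (y : Ω)⁻¹ * γ ⟨y, (N.le_of_mem h).1 y.2⟩}
      le_of_mem := fun h => N.le_of_mem h.1
      injective_of_mem := fun h => N.injective_of_mem h.1
      conj_mem := fun {Y} {g} hY hg => ⟨N.conj_mem hY hg, fun y => disp_conj γ hγ ⟨g, hg⟩ ⟨y, hY y.2⟩⟩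
      comp_mem := by
        rintro Y Y' ψ χ ⟨hψ, hψy⟩ ⟨hχ, hχy⟩ h
        exact ⟨N.comp_mem hψ hχ h, fun y => (hχy ⟨ψ y, h y⟩).trans (hψy y)⟩
      inv_mem := by
        rintro Y ψ ⟨hψ, hψy⟩
        obtain ⟨χ, hχ, hinv⟩ := N.inv_mem hψ
        refine ⟨χ, ⟨hχ, ?_⟩, hinv⟩
        rintro ⟨_, y, rfl⟩
        simp only [hinv]
        exact (hψy y).symm }
  have : Finite (centralizerIn S Q) := finite_of_le (centralizerIn_le S Q)
  have hle := Descent.hom_le_of_aut_centric (E := D) (hS.to_le (centralizerIn_le S Q))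
    (isSaturated_centralizerSystem hS hF hQ (isCentralizerSystem_centralizerSystem F Q hQ.1))
    (fun R hR hRc _ α hα => (mem_autGroup_iff_hom hR.1).2
      ⟨(mem_autGroup_iff_hom hR.1).1 hα, fun y => haut R hR.1 hR hRc α hα y⟩) X hφ
  exact hle.2 x

/-- The subgroup of automorphisms moving elements only inside `Q`, at a fully normalized centric subgroup. -/
theorem exists_conjAut_of_disp [Finite S] [Fact p.Prime] (hS : IsPGroup p S) (hF : F.IsSaturated p)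
    (hQ : F.IsFullyCentralized Q) {R : Subgroup Ω}
    (hR : (centralizerSystem F Q hQ.1).IsFullyNormalized R)
    (hRc : (centralizerSystem F Q hQ.1).IsCentric R)
    {θ : MulAut R} (hθ : θ ∈ (centralizerSystem F Q hQ.1).autGroup R)
    (h : ∀ x : R, (x : Ω)⁻¹ * ((θ x : R) : Ω) ∈ Q) :
    ∃ s ∈ centralizerIn S Q, (∀ x : R, ((θ x : R) : Ω) = s * (x : Ω) * s⁻¹) ∧ ∃ k : ℕ, θ ^ p ^ k = 1 := by
  set N := centralizerSystem F Q hQ.1
  have hCfin : Finite (centralizerIn S Q) := finite_of_le (centralizerIn_le S Q)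
  have hCp : IsPGroup p (centralizerIn S Q) := hS.to_le (centralizerIn_le S Q)
  have : Finite R := finite_of_le hR.1
  have : Finite (MulAut R) := finite_mulAut
  have hZR := center_le_of_centric hQ.1 hRc
  have hfix : ∀ α ∈ N.autGroup R, ∀ z : R, (z : Ω) ∈ Q → ((α z : R) : Ω) = z := by
    intro α hα z hz
    obtain ⟨-, -, -, ψ, -, hag, hq⟩ := (mem_autGroup_iff_hom hR.1).1 hα
    exact (hag z).symm.trans ((congrArg ψ (Subtype.ext rfl)).trans (hq ⟨z, hz⟩))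
  let K : Subgroup (N.autGroup R) :=
    { carrier := {κ | ∀ x : R, (x : Ω)⁻¹ * (((κ : MulAut R) x : R) : Ω) ∈ Q}
      one_mem' := fun x => by simp [Q.one_mem]
      mul_mem' := fun {a b} ha hb x => by
        have := Q.mul_mem (hb x) (ha ((b : MulAut R) x))
        simpa [mul_assoc] using this
      inv_mem' := fun {a} ha x => by
        have := Q.inv_mem (ha ((a : MulAut R)⁻¹ x))
        simpa [mul_inv_rev] using this }
  have hKn : K.Normal := ⟨fun κ hκ β x => by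
    have h1 := hκ ((β : MulAut R)⁻¹ x)
    set w : R := ((β : MulAut R)⁻¹ x)⁻¹ * (κ : MulAut R) ((β : MulAut R)⁻¹ x) with hw
    have h2 := hfix β β.2 w h1
    have h3 : (β : MulAut R) w =
        x⁻¹ * (β : MulAut R) ((κ : MulAut R) ((β : MulAut R)⁻¹ x)) := by
      rw [hw, map_mul, map_inv, MulAut.apply_inv_self]
    show ((x⁻¹ * (β : MulAut R) ((κ : MulAut R) ((β : MulAut R)⁻¹ x)) : R) : Ω) ∈ Q
    rw [← h3, h2]
    exact h1⟩
  obtain ⟨e, he⟩ := IsPGroup.iff_card.1 (hCp.to_le hR.1)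
  have hpow : ∀ κ ∈ K, (κ : MulAut R) ^ p ^ e = 1 := fun κ hκ => MulEquiv.ext fun x => by
    rw [CfsgLib.FusionQuot.pow_apply_of_moves_to_fixed _ x (Subtype.ext (hfix κ κ.2 _ (hκ x))), ← he,
      pow_card_eq_one', mul_one]
    rfl
  have hKp : IsPGroup p K := fun κ => ⟨e, Subtype.ext (Subtype.ext (hpow κ κ.2))⟩
  obtain ⟨-, U, hU⟩ := isFullyAutomized_of_isFullyNormalized hCp
    (isSaturated_centralizerSystem hS hF hQ (isCentralizerSystem_centralizerSystem F Q hQ.1)) hR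
  have hmem := CfsgLib.FusionQuot.mem_sylow_of_normal U hKp
    (show (⟨θ, hθ⟩ : N.autGroup R) ∈ K from h)
  rw [hU] at hmem
  obtain ⟨s, hs, hsx⟩ := mem_autInducedBy_iff.1 (Subgroup.mem_subgroupOf.1 hmem)
  exact ⟨s, hs, hsx, e, hpow ⟨θ, hθ⟩ h⟩

/-- An element of order prime to `p` moving `C_S(Q)` into `Q` commutes with the fusion of `C_F(Q)`. -/
theorem stable_coprime [Finite S] [Fact p.Prime] (hS : IsPGroup p S) (hF : F.IsSaturated p)
    (hQ : F.IsFullyCentralized Q) {g : MulAut ↥(Q ⊔ centralizerIn S Q)}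
    (hg : g ∈ F.autGroup (Q ⊔ centralizerIn S Q))
    (hgQ : ∀ x : Q, ((g (Subgroup.inclusion le_sup_left x) : ↥(Q ⊔ centralizerIn S Q)) : Ω) ∈ Q)
    (hgC : ∀ c : centralizerIn S Q,
      (c : Ω)⁻¹ * ((g (Subgroup.inclusion le_sup_right c) : ↥(Q ⊔ centralizerIn S Q)) : Ω) ∈
        Q ⊓ centralizerIn S Q)
    (hcop : (orderOf g).Coprime p)
    {X : Subgroup Ω} {φ : X →* Ω} (hφ : φ ∈ F.centralizerHom Q X) (x : X) :
    (φ x)⁻¹ * ((g (Subgroup.inclusion le_sup_right ⟨φ x, hφ.2.2.1 x⟩) : ↥(Q ⊔ centralizerIn S Q)) : Ω) =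
      (x : Ω)⁻¹ * ((g (Subgroup.inclusion le_sup_right ⟨x, hφ.2.1 x.2⟩) : ↥(Q ⊔ centralizerIn S Q)) : Ω) := by
  let U := Q ⊔ centralizerIn S Q
  have hUS : U ≤ S := sup_le hQ.1 (centralizerIn_le S Q)
  refine stable_of_aut hS hF hQ (U.subtype.comp (g.toMonoidHom.comp (Subgroup.inclusion le_sup_right)))
    hgC (fun R hR hRn hRc φ hφ r => ?_) hφ x
  set N := centralizerSystem F Q hQ.1
  have hgS : U.subtype.comp g.toMonoidHom ∈ F.Hom U := (mem_autGroup_iff_hom hUS).1 hg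
  have : Finite R := finite_of_le (hR.trans (centralizerIn_le S Q))
  have : Finite Q := finite_of_le hQ.1
  have hRQ : R ⊔ Q ≤ U := sup_le (hR.trans le_sup_right) le_sup_left
  have hRQS : R ⊔ Q ≤ S := hRQ.trans hUS
  have : Finite ↥(R ⊔ Q) := finite_of_le hRQS
  have hZR := center_le_of_centric hQ.1 hRc
  have hgR : ∀ r : R, ((g (Subgroup.inclusion (hR.trans le_sup_right) r) : U) : Ω) ∈ R := fun r => by
    have := R.mul_mem r.2 (hZR (hgC ⟨r, hR r.2⟩))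
    rwa [mul_inv_cancel_left] at this
  have hG := restrict_mem hgS hRQ
  obtain ⟨G, hGF, hGx⟩ := exists_aut hG (range_eq_of_le (hom_inj hG) (forall_mem_of_sup
    (fun r => le_sup_left (b := Q) (hgR r)) (fun q => le_sup_right (a := R) (hgQ q))))
  obtain ⟨γ, hγF, hγx⟩ := exists_aut (restrict_mem hgS (hR.trans le_sup_right))
    (range_eq_of_le (hom_inj (restrict_mem hgS (hR.trans le_sup_right))) hgR)
  obtain ⟨hφF, -, -, Φ₀, hΦ₀, hΦR, hΦQ⟩ := (mem_autGroup_iff_hom hRn.1).1 hφ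
  obtain ⟨Φ, hΦF, hΦx⟩ := exists_aut hΦ₀ (range_eq_of_le (hom_inj hΦ₀) (forall_mem_of_sup
    (fun r => le_sup_left (b := Q) ((hΦR r).symm ▸ (φ r).2))
    (fun q => le_sup_right (a := R) ((hΦQ q).symm ▸ q.2))))
  have hGR : ∀ r : R, G (Subgroup.inclusion le_sup_left r) = Subgroup.inclusion le_sup_left (γ r) :=
    fun r => Subtype.ext ((hGx _).trans (hγx r).symm)
  have hΦr : ∀ r : R, Φ (Subgroup.inclusion le_sup_left r) = Subgroup.inclusion le_sup_left (φ r) :=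
    fun r => Subtype.ext ((hΦx _).trans (hΦR r))
  have hΦq : ∀ q : ↥(R ⊔ Q), (q : Ω) ∈ Q → Φ q = q := fun q hq =>
    Subtype.ext ((hΦx _).trans ((congrArg Φ₀ (Subtype.ext rfl)).trans (hΦQ ⟨q, hq⟩)))
  have hGQ' : ∀ q : ↥(R ⊔ Q), (q : Ω) ∈ Q → ((G⁻¹ q : ↥(R ⊔ Q)) : Ω) ∈ Q := by
    intro q hq
    have hsurj := range_eq_of_le (hom_inj (restrict_mem hgS (le_sup_left (b := centralizerIn S Q)))) hgQ
    obtain ⟨q', hq'⟩ : (q : Ω) ∈ ((U.subtype.comp g.toMonoidHom).comp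
        (Subgroup.inclusion le_sup_left)).range := by rw [hsurj]; exact hq
    have : G (Subgroup.inclusion le_sup_right q') = q := Subtype.ext ((hGx _).trans hq')
    rw [← this, MulAut.inv_apply_self]
    exact q'.2
  have hGinvR : ∀ r : R, G⁻¹ (Subgroup.inclusion le_sup_left r) =
      Subgroup.inclusion le_sup_left (γ⁻¹ r) := fun r => G.injective (by
    rw [MulAut.apply_inv_self, hGR, MulAut.apply_inv_self])
  set θ := γ * φ * γ⁻¹ * φ⁻¹ with hθdef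
  have hconjN : γ * φ * γ⁻¹ ∈ N.autGroup R := by
    refine (mem_autGroup_iff_hom hRn.1).2 ⟨?_, hR, fun r => hR ((γ * φ * γ⁻¹) r).2,
      (R ⊔ Q).subtype.comp (G * Φ * G⁻¹).toMonoidHom,
      (mem_autGroup_iff_hom hRQS).1 (mul_mem (mul_mem hGF hΦF) (inv_mem hGF)), fun r => ?_, fun q => ?_⟩
    · exact (mem_autGroup_iff_hom (hR.trans (centralizerIn_le S Q))).1
        (mul_mem (mul_mem hγF ((mem_autGroup_iff_hom (hR.trans (centralizerIn_le S Q))).2 hφF))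
          (inv_mem hγF))
    · show ((G (Φ (G⁻¹ (Subgroup.inclusion le_sup_left r))) : ↥(R ⊔ Q)) : Ω) = _
      rw [hGinvR, hΦr, hGR]
      rfl
    · show ((G (Φ (G⁻¹ (Subgroup.inclusion le_sup_right q))) : ↥(R ⊔ Q)) : Ω) = q
      rw [hΦq _ (hGQ' _ q.2), MulAut.apply_inv_self]
      rfl
  have hθN : θ ∈ N.autGroup R := mul_mem hconjN (inv_mem hφ)
  have hfix : ∀ (α : MulAut R), α ∈ N.autGroup R → ∀ z : R, (z : Ω) ∈ Q → α z = z := by
    intro α hα z hz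
    obtain ⟨-, -, -, ψ, -, hag, hq⟩ := (mem_autGroup_iff_hom hRn.1).1 hα
    exact Subtype.ext ((hag z).symm.trans ((congrArg ψ (Subtype.ext rfl)).trans (hq ⟨z, hz⟩)))
  have hθQ : ∀ x : R, (x : Ω)⁻¹ * ((θ x : R) : Ω) ∈ Q := by
    intro x
    obtain ⟨y, rfl⟩ := φ.surjective x
    obtain ⟨u, rfl⟩ := γ.surjective y
    show ((φ (γ u) : R) : Ω)⁻¹ * ((γ (φ (γ⁻¹ (φ⁻¹ (φ (γ u))))) : R) : Ω) ∈ Q
    rw [MulAut.inv_apply_self, MulAut.inv_apply_self]
    set z : R := u⁻¹ * γ u with hz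
    have hzQ : (z : Ω) ∈ Q := by
      have h1 := (hgC ⟨u, hR u.2⟩).1
      show (u : Ω)⁻¹ * ((γ u : R) : Ω) ∈ Q
      rw [hγx]
      exact h1
    have h2 : φ (γ u) = φ u * z := by
      rw [show γ u = u * z by rw [hz, mul_inv_cancel_left], map_mul, hfix φ hφ z hzQ]
    have h3 : (φ u : Ω)⁻¹ * ((γ (φ u) : R) : Ω) ∈ Q := by
      rw [hγx]
      exact (hgC ⟨φ u, hR (φ u).2⟩).1
    rw [h2]
    show ((φ u : Ω) * (z : Ω))⁻¹ * _ ∈ Q
    rw [mul_inv_rev, mul_assoc]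
    exact Q.mul_mem (Q.inv_mem hzQ) h3
  obtain ⟨s, hs, hsx, k, hk⟩ := exists_conjAut_of_disp hS hF hQ hRn hRc hθN hθQ
  have hcomm : γ * θ = θ * γ := by
    refine MulEquiv.ext fun x => Subtype.ext ?_
    show ((γ (θ x) : R) : Ω) = ((θ (γ x) : R) : Ω)
    rw [hsx (γ x), hγx, hγx]
    have h1 : (Subgroup.inclusion (hR.trans le_sup_right) (θ x) : U) =
        Subgroup.inclusion le_sup_right ⟨s, hs⟩ * Subgroup.inclusion (hR.trans le_sup_right) x *
          (Subgroup.inclusion le_sup_right ⟨s, hs⟩)⁻¹ := Subtype.ext (hsx x)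
    show ((g (Subgroup.inclusion (hR.trans le_sup_right) (θ x)) : U) : Ω) = _
    rw [h1, map_mul, map_mul, map_inv]
    set a := (s : Ω)⁻¹ * ((g (Subgroup.inclusion le_sup_right ⟨s, hs⟩) : U) : Ω) with ha
    set b := ((g (Subgroup.inclusion (hR.trans le_sup_right) x) : U) : Ω) with hb
    have hbC : b ∈ centralizerIn S Q := hR (hgR x)
    have hab : Commute a b := Subgroup.mem_centralizer_iff.1 hbC.2 a (hgC ⟨s, hs⟩).1
    show ((g (Subgroup.inclusion le_sup_right ⟨s, hs⟩) : U) : Ω) * b *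
      (((g (Subgroup.inclusion le_sup_right ⟨s, hs⟩) : U) : Ω))⁻¹ = s * b * s⁻¹
    rw [show ((g (Subgroup.inclusion le_sup_right ⟨s, hs⟩) : U) : Ω) = s * a by
      rw [ha, mul_inv_cancel_left]]
    rw [mul_assoc s a b, hab.eq]
    group
  have hiter : ∀ n : ℕ, γ ^ n * φ * (γ ^ n)⁻¹ = θ ^ n * φ := by
    intro n
    induction n with
    | zero => simp
    | succ n ih =>
      have hc : Commute γ (θ ^ n) := (show Commute γ θ from hcomm).pow_right n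
      calc γ ^ (n + 1) * φ * (γ ^ (n + 1))⁻¹ = γ * (γ ^ n * φ * (γ ^ n)⁻¹) * γ⁻¹ := by
            rw [pow_succ']; group
        _ = θ ^ n * (γ * φ * γ⁻¹) := by rw [ih, ← mul_assoc γ, hc.eq]; group
        _ = θ ^ n * (θ * φ) := by rw [hθdef]; group
        _ = _ := by rw [← mul_assoc, ← pow_succ]
  have hγord : γ ^ orderOf g = 1 := by
    refine MulEquiv.ext fun x => Subtype.ext ?_
    have key : ∀ n : ℕ, Subgroup.inclusion (hR.trans le_sup_right) ((γ ^ n) x) =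
        (g ^ n) (Subgroup.inclusion (hR.trans le_sup_right) x) := by
      intro n
      induction n with
      | zero => rfl
      | succ n ih =>
        rw [pow_succ', pow_succ', MulAut.mul_apply, MulAut.mul_apply, ← ih]
        exact Subtype.ext (hγx _)
    have h1 := congrArg (fun u : U => (u : Ω)) (key (orderOf g))
    rw [pow_orderOf_eq_one] at h1
    exact h1
  have h1 := hiter (orderOf g)
  rw [hγord, inv_one, one_mul, mul_one, eq_comm, mul_eq_right] at h1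
  have hθ1 : θ = 1 := orderOf_eq_one_iff.1 (Nat.eq_one_of_dvd_coprimes (hcop.pow_right k)
    (orderOf_dvd_of_pow_eq_one h1) (orderOf_dvd_of_pow_eq_one hk))
  have hcommφ : γ (φ r) = φ (γ r) := by
    have h2 : γ * φ * γ⁻¹ * φ⁻¹ = 1 := hθ1
    rw [mul_inv_eq_one, mul_inv_eq_iff_eq_mul] at h2
    exact congrArg (fun a : MulAut R => a r) h2
  have hz : (((r⁻¹ * γ r : R)) : Ω) ∈ Q := by
    show (r : Ω)⁻¹ * ((γ r : R) : Ω) ∈ Q
    rw [hγx]
    exact (hgC ⟨r, hR r.2⟩).1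
  have h3 := congrArg Subtype.val (hfix φ hφ _ hz)
  rw [map_mul, map_inv, ← hcommφ] at h3
  show ((φ r : R) : Ω)⁻¹ * ((g (Subgroup.inclusion (hR.trans le_sup_right) (φ r)) : U) : Ω) =
    (r : Ω)⁻¹ * ((g (Subgroup.inclusion (hR.trans le_sup_right) r) : U) : Ω)
  have h4 : ∀ y : R, ((g (Subgroup.inclusion (hR.trans le_sup_right) y) : U) : Ω) = ((γ y : R) : Ω) :=
    fun y => (hγx y).symm
  rw [h4, h4]
  exact h3

/-- An element of a strongly closed subgroup meeting `C(Q)` in `Q` commutes with the fusion of `C_F(Q)`. -/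
theorem stable_strongly_closed [Finite S] [Fact p.Prime] (hS : IsPGroup p S) (hF : F.IsSaturated p)
    (hT : F.StronglyClosed T) (hQ : F.IsFullyCentralized Q) (hC : centralizerIn T Q ≤ Q)
    {t : Ω} (ht : t ∈ T) (htN : t ∈ Subgroup.normalizer (Q : Set Ω))
    {X : Subgroup Ω} {φ : X →* Ω} (hφ : φ ∈ F.centralizerHom Q X) (x : X) :
    (φ x)⁻¹ * (t * φ x * t⁻¹) = (x : Ω)⁻¹ * (t * (x : Ω) * t⁻¹) := by
  have htS : t ∈ S := hT.1 ht
  have hTn := stronglyClosed_le_normalizer hT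
  have htC : ∀ c ∈ centralizerIn S Q, t * c * t⁻¹ ∈ centralizerIn S Q := fun c hc =>
    ⟨S.mul_mem (S.mul_mem htS hc.1) (S.inv_mem htS), Subgroup.mem_centralizer_iff.2 fun q hq => by
      have h1 : t⁻¹ * q * t ∈ Q := by simpa using conj_mem_of_mem_normalizer (inv_mem htN) hq
      have h2 := Subgroup.mem_centralizer_iff.1 hc.2 _ h1
      calc q * (t * c * t⁻¹) = t * (t⁻¹ * q * t * c) * t⁻¹ := by group
        _ = t * (c * (t⁻¹ * q * t)) * t⁻¹ := by rw [h2]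
        _ = _ := by group⟩
  have hdisp : ∀ c : centralizerIn S Q, (c : Ω)⁻¹ * (t * c * t⁻¹) ∈ Q ⊓ centralizerIn S Q := by
    intro c
    have h1 : (c : Ω)⁻¹ * (t * c * t⁻¹) ∈ centralizerIn S Q :=
      (centralizerIn S Q).mul_mem ((centralizerIn S Q).inv_mem c.2) (htC c c.2)
    refine ⟨hC ⟨?_, h1.2⟩, h1⟩
    have h2 : (c : Ω)⁻¹ * t * (c : Ω)⁻¹⁻¹ ∈ T :=
      conj_mem_of_mem_normalizer (hTn (S.inv_mem c.2.1)) ht
    have h3 := T.mul_mem h2 (T.inv_mem ht)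
    simpa [mul_assoc] using h3
  let γ : centralizerIn S Q →* Ω := (MulAut.conj t).toMonoidHom.comp (centralizerIn S Q).subtype
  refine stable_of_aut hS hF hQ γ hdisp (fun R hR hRn hRc φ hφ r => ?_) hφ x
  set N := centralizerSystem F Q hQ.1
  show ((φ r : R) : Ω)⁻¹ * (t * ((φ r : R) : Ω) * t⁻¹) = (r : Ω)⁻¹ * (t * (r : Ω) * t⁻¹)
  have hRS : R ≤ S := hR.trans (centralizerIn_le S Q)
  have hPS : R ⊔ Q ≤ S := sup_le hRS hQ.1
  have : Finite ↥(R ⊔ Q) := finite_of_le hPS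
  have : Finite R := finite_of_le hRS
  have hZR := center_le_of_centric hQ.1 hRc
  have htR : t ∈ Subgroup.normalizer (R : Set Ω) := by
    refine mem_normalizer_of_forall (α := MulEquiv.ofBijective (MonoidHom.codRestrict
      ((MulAut.conj t).toMonoidHom.comp R.subtype) R fun r => ?_) ?_) fun r => rfl
    · have := R.mul_mem r.2 (hZR (hdisp ⟨r, hR r.2⟩))
      rwa [mul_inv_cancel_left] at this
    · exact Finite.injective_iff_bijective.1 fun a b h =>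
        Subtype.ext ((MulAut.conj t).injective (congrArg Subtype.val h :))
  have htP : t ∈ Subgroup.normalizer ((R ⊔ Q : Subgroup Ω) : Set Ω) := normalizer_le_sup htR htN
  obtain ⟨hφF, -, -, Φ₀, hΦ₀, hΦR, hΦQ⟩ := (mem_autGroup_iff_hom hRn.1).1 hφ
  have hrange := range_eq_of_le (hom_inj hΦ₀) (forall_mem_of_sup
    (fun r => le_sup_left (b := Q) ((hΦR r).symm ▸ (φ r).2))
    (fun q => le_sup_right (a := R) ((hΦQ q).symm ▸ q.2)))
  -- `R ⊔ Q` is receptive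
  have hrecQ := isReceptive_of_isFullyCentralized hS hF hQ
  have hcen : F.IsCentric (R ⊔ Q) := by
    refine ⟨hPS, ?_⟩
    rintro _ ⟨χ, hχ, rfl⟩
    have hχQ := restrict_mem hχ (le_sup_right (a := R))
    obtain ⟨ρ, hρ, hρinv⟩ := F.inv_mem hχQ
    have hρr : ρ.range = Q := by
      ext y
      constructor
      · rintro ⟨⟨_, q, rfl⟩, rfl⟩
        rw [hρinv]
        exact q.2
      · intro hy
        exact ⟨⟨_, ⟨y, hy⟩, rfl⟩, hρinv ⟨y, hy⟩⟩
    set Q' := (χ.comp (Subgroup.inclusion (le_sup_right (a := R)))).range with hQ'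
    obtain ⟨ψ, hψ, hψQ, hψC⟩ := exists_ext_centralizer hrecQ hρ hρr
    have hχR : ∀ r : R, χ (Subgroup.inclusion le_sup_left r) ∈ centralizerIn S Q' := fun r =>
      ⟨map_mem hχ _, Subgroup.mem_centralizer_iff.2 fun y hy => by
        obtain ⟨q, rfl⟩ := hy
        show χ _ * χ _ = χ _ * χ _
        rw [← map_mul, ← map_mul]
        exact congrArg χ (Subtype.ext (Subgroup.mem_centralizer_iff.1 (hR r.2).2 q q.2))⟩
    have hmem : ∀ x, χ x ∈ Q' ⊔ centralizerIn S Q' := forall_mem_of_sup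
      (fun r => le_sup_right (a := Q') (hχR r))
      (fun q => le_sup_left (b := centralizerIn S Q') ⟨q, rfl⟩)
    have hη := F.comp_mem hχ hψ hmem
    set η := ψ.comp (χ.codRestrict _ hmem) with hηdef
    have hηR : ∀ r : R, η (Subgroup.inclusion le_sup_left r) ∈ centralizerIn S Q := fun r =>
      hψC ⟨_, hχR r⟩
    have hηQ : ∀ q : Q, η (Subgroup.inclusion le_sup_right q) = q := fun q =>
      (hψQ ⟨_, q, rfl⟩).trans (hρinv q)
    have hconj : N.IsConj R ((η.comp (Subgroup.inclusion le_sup_left)).range) :=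
      ⟨_, ⟨restrict_mem hη le_sup_left, hR, hηR, η, hη, fun r => rfl, hηQ⟩, rfl⟩
    intro c hc
    have hcQ' : c ∈ centralizerIn S Q' := ⟨hc.1, Subgroup.mem_centralizer_iff.2 fun y hy =>
      Subgroup.mem_centralizer_iff.1 hc.2 y (by obtain ⟨q, rfl⟩ := hy; exact ⟨_, rfl⟩)⟩
    have h1 : ψ (Subgroup.inclusion le_sup_right ⟨c, hcQ'⟩) ∈
        centralizerIn (centralizerIn S Q) (η.comp (Subgroup.inclusion le_sup_left)).range := by
      refine ⟨hψC ⟨c, hcQ'⟩, Subgroup.mem_centralizer_iff.2 ?_⟩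
      rintro _ ⟨r, rfl⟩
      show ψ _ * ψ _ = ψ _ * ψ _
      rw [← map_mul, ← map_mul]
      exact congrArg ψ (Subtype.ext (Subgroup.mem_centralizer_iff.1 hc.2 _ ⟨_, rfl⟩))
    obtain ⟨r, hr⟩ := hRc.2 _ hconj h1
    exact ⟨_, congrArg Subtype.val (hom_inj hψ hr :)⟩
  -- the transported action of `t` is induced by `S`
  set ct := conjAut (R ⊔ Q) t htP with hct
  have hctF : ct ∈ F.autGroup (R ⊔ Q) :=
    autInducedBy_le_autGroup F hPS (conjAut_mem_autInducedBy htS htP)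
  obtain ⟨Φ, hΦF, hΦx⟩ := exists_aut hΦ₀ hrange
  set Θ := Φ * ct * Φ⁻¹ * ct⁻¹ with hΘdef
  have hΦq : ∀ q : ↥(R ⊔ Q), (q : Ω) ∈ Q → Φ q = q := fun q hq =>
    Subtype.ext ((hΦx _).trans ((congrArg Φ₀ (Subtype.ext rfl)).trans (hΦQ ⟨q, hq⟩)))
  have hΦr : ∀ r : R, Φ (Subgroup.inclusion le_sup_left r) = Subgroup.inclusion le_sup_left (φ r) :=
    fun r => Subtype.ext ((hΦx _).trans (hΦR r))
  have hΦq' : ∀ q : ↥(R ⊔ Q), (q : Ω) ∈ Q → Φ⁻¹ q = q := fun q hq =>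
    Φ.injective (by rw [MulAut.apply_inv_self, hΦq q hq])
  have hΦr' : ∀ r : R, Φ⁻¹ (Subgroup.inclusion le_sup_left r) =
      Subgroup.inclusion le_sup_left (φ⁻¹ r) := fun r => Φ.injective (by
    rw [MulAut.apply_inv_self, hΦr, MulAut.apply_inv_self])
  set cR := conjAut R t htR with hcR
  have hctr : ∀ r : R, ct (Subgroup.inclusion le_sup_left r) = Subgroup.inclusion le_sup_left (cR r) :=
    fun r => rfl
  have hctr' : ∀ r : R, ct⁻¹ (Subgroup.inclusion le_sup_left r) =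
      Subgroup.inclusion le_sup_left (cR⁻¹ r) := fun r => ct.injective (by
    rw [MulAut.apply_inv_self, hctr, MulAut.apply_inv_self])
  set θ := φ * cR * φ⁻¹ * cR⁻¹ with hθdef
  have hΘr : ∀ r : R, Θ (Subgroup.inclusion le_sup_left r) = Subgroup.inclusion le_sup_left (θ r) := by
    intro r
    show Φ (ct (Φ⁻¹ (ct⁻¹ (Subgroup.inclusion le_sup_left r)))) = _
    rw [hctr', hΦr', hctr, hΦr]
    rfl
  have hΘq : ∀ q : ↥(R ⊔ Q), (q : Ω) ∈ Q → Θ q = q := by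
    intro q hq
    show Φ (ct (Φ⁻¹ (ct⁻¹ q))) = q
    have h1 : ((ct⁻¹ q : ↥(R ⊔ Q)) : Ω) ∈ Q := by
      have h2 : t * ((ct⁻¹ q : ↥(R ⊔ Q)) : Ω) * t⁻¹ = q :=
        congrArg Subtype.val (MulAut.apply_inv_self (R ⊔ Q : Subgroup Ω) ct q :)
      have h3 := conj_mem_of_mem_normalizer (inv_mem htN) hq
      rw [← h2] at h3
      simpa [mul_assoc] using h3
    rw [hΦq' _ h1, MulAut.apply_inv_self, hΦq _ hq]
  have hθN : θ ∈ N.autGroup R := by
    have hΘF : Θ ∈ F.autGroup (R ⊔ Q) :=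
      mul_mem (mul_mem (mul_mem hΦF hctF) (inv_mem hΦF)) (inv_mem hctF)
    have hΘh := (mem_autGroup_iff_hom hPS).1 hΘF
    refine (mem_autGroup_iff_hom hRn.1).2 ⟨mem_of_restrict hΘh le_sup_left _ fun r => ?_, hR,
      fun r => hR (θ r).2, _, hΘh, fun r => ?_, fun q => ?_⟩
    · exact (congrArg Subtype.val (hΘr r)).symm
    · exact congrArg Subtype.val (hΘr r)
    · exact congrArg Subtype.val (hΘq _ q.2)
  have hfixφ : ∀ z : R, (z : Ω) ∈ Q → φ z = z := fun z hz =>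
    Subtype.ext ((hΦR z).symm.trans ((congrArg Φ₀ (Subtype.ext rfl)).trans (hΦQ ⟨z, hz⟩)))
  have hθQ : ∀ x : R, (x : Ω)⁻¹ * ((θ x : R) : Ω) ∈ Q := by
    intro x
    obtain ⟨y, rfl⟩ := cR.surjective x
    obtain ⟨u, rfl⟩ := φ.surjective y
    show ((cR (φ u) : R) : Ω)⁻¹ * ((φ (cR (φ⁻¹ (cR⁻¹ (cR (φ u))))) : R) : Ω) ∈ Q
    rw [MulAut.inv_apply_self, MulAut.inv_apply_self]
    have hz : (((u⁻¹ * cR u : R)) : Ω) ∈ Q := (hdisp ⟨u, hR u.2⟩).1
    have h2 : φ (cR u) = φ u * (u⁻¹ * cR u) := by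
      conv_lhs => rw [show cR u = u * (u⁻¹ * cR u) by rw [mul_inv_cancel_left], map_mul, hfixφ _ hz]
    rw [h2]
    have h3 : (((φ u)⁻¹ * cR (φ u) : R) : Ω) ∈ Q := (hdisp ⟨φ u, hR (φ u).2⟩).1
    show (((cR (φ u))⁻¹ * (φ u * (u⁻¹ * cR u)) : R) : Ω) ∈ Q
    rw [show (cR (φ u))⁻¹ * (φ u * (u⁻¹ * cR u)) = ((φ u)⁻¹ * cR (φ u))⁻¹ * (u⁻¹ * cR u) by group]
    exact Q.mul_mem (Q.inv_mem h3) hz
  obtain ⟨s, hs, hsx, -⟩ := exists_conjAut_of_disp hS hF hQ hRn hRc hθN hθQ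
  have hΘs : ∀ y : ↥(R ⊔ Q), ((Θ y : ↥(R ⊔ Q)) : Ω) = s * (y : Ω) * s⁻¹ := by
    intro y
    exact eq_of_sup (f := (R ⊔ Q).subtype.comp Θ.toMonoidHom)
      (g := (MulAut.conj s).toMonoidHom.comp (R ⊔ Q).subtype)
      (fun r => (congrArg Subtype.val (hΘr r)).trans (hsx r))
      (fun q => (congrArg Subtype.val (hΘq _ q.2)).trans (by
        show (q : Ω) = s * q * s⁻¹
        rw [← Subgroup.mem_centralizer_iff.1 hs.2 q q.2, mul_inv_cancel_right])) y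
  obtain ⟨ψ, hψ, hag⟩ := (isReceptive_of_isCentric hS hF hcen).2 _ _ hΦ₀ hrange
  have htE : t ∈ extender S (R ⊔ Q) Φ₀ := mem_extender_iff.2 ⟨htS, htP, s * t,
    S.mul_mem hs.1 htS, fun y hy => by
      rw [← hΦx, ← hΦx]
      have h1 : Φ (ct y) = Θ (ct (Φ y)) := by
        show Φ (ct y) = Φ (ct (Φ⁻¹ (ct⁻¹ (ct (Φ y)))))
        rw [MulAut.inv_apply_self, MulAut.inv_apply_self]
      rw [show (⟨t * (y : Ω) * t⁻¹, hy⟩ : ↥(R ⊔ Q)) = ct y from Subtype.ext rfl, h1, hΘs]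
      show s * (t * ((Φ y : ↥(R ⊔ Q)) : Ω) * t⁻¹) * s⁻¹ = _
      group⟩
  have hψt : ψ ⟨t, htE⟩ ∈ T :=
    hT.2 (T ⊓ extender S (R ⊔ Q) Φ₀) inf_le_left _ (restrict_mem hψ inf_le_right) ⟨t, ht, htE⟩
  have hPE : R ⊔ Q ≤ extender S (R ⊔ Q) Φ₀ := le_extender hPS (map_mem hΦ₀)
  have heq : ∀ y : ↥(R ⊔ Q), Φ₀ (ct y) = ψ ⟨t, htE⟩ * Φ₀ y * (ψ ⟨t, htE⟩)⁻¹ := by
    intro y
    rw [← hag _ (ct y).2 (hPE (ct y).2), ← hag _ y.2 (hPE y.2), ← map_mul, ← map_inv, ← map_mul]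
    exact congrArg ψ (Subtype.ext rfl)
  set z := t⁻¹ * ψ ⟨t, htE⟩ with hz
  have hzQ : z ∈ Q := by
    refine hC ⟨T.mul_mem (T.inv_mem ht) hψt, Subgroup.mem_centralizer_iff.2 fun q hq => ?_⟩
    have h1 := heq (Subgroup.inclusion le_sup_right ⟨q, hq⟩)
    have h2 : t * q * t⁻¹ = ψ ⟨t, htE⟩ * q * (ψ ⟨t, htE⟩)⁻¹ := by
      have h3 : Φ₀ (ct (Subgroup.inclusion le_sup_right ⟨q, hq⟩)) = t * q * t⁻¹ :=
        (congrArg Φ₀ (Subtype.ext rfl)).trans (hΦQ ⟨_, conj_mem_of_mem_normalizer htN hq⟩)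
      rw [← h3, h1, hΦQ ⟨q, hq⟩]
    calc q * (t⁻¹ * ψ ⟨t, htE⟩) = t⁻¹ * (t * q * t⁻¹) * ψ ⟨t, htE⟩ := by group
      _ = _ := by rw [h2, hz]; group
  have hψeq : ψ ⟨t, htE⟩ = t * z := by rw [hz, mul_inv_cancel_left]
  have h1 : ((φ (cR r) : R) : Ω) = t * ((φ r : R) : Ω) * t⁻¹ := by
    have h2 : ((φ (cR r) : R) : Ω) = ψ ⟨t, htE⟩ * ((φ r : R) : Ω) * (ψ ⟨t, htE⟩)⁻¹ :=
      ((hΦR (cR r)).symm.trans (congrArg Φ₀ (hctr r)).symm).trans
        ((heq (Subgroup.inclusion le_sup_left r)).trans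
          (congrArg (fun z => ψ ⟨t, htE⟩ * z * (ψ ⟨t, htE⟩)⁻¹) (hΦR r)))
    rw [h2, hψeq]
    have hc : Commute z ((φ r : R) : Ω) := Subgroup.mem_centralizer_iff.1 (hR (φ r).2).2 z hzQ
    rw [mul_inv_rev, mul_assoc t z, hc.eq]
    group
  have hw : (((r⁻¹ * cR r : R)) : Ω) ∈ Q := (hdisp ⟨r, hR r.2⟩).1
  have h3 := congrArg Subtype.val (hfixφ _ hw)
  rw [map_mul, map_inv] at h3
  show _ = ((r⁻¹ * cR r : R) : Ω)
  rw [← h3, ← h1]
  rfl

end CfsgLib.Fusion.CenSub
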